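import Cfsg.Agent.Lib.PLocal.OmegaSmall
import Cfsg.Agent.Lib.PLocal.MaxClass
import Cfsg.Agent.Lib.OddOrder.OmegaCentral
import Cfsg.Agent.Lib.Isolated.RankOne
import Cfsg.Agent.Lib.LocalEven.OmegaOne
import Mathlib.Tactic.Group

/-!
`p`-groups of rank at most two for odd `p`: elementary facts used in the classification.
-/

set_option autoImplicit false
set_option linter.unusedSectionVars false
set_option linter.style.haveILetI false

namespace Cfsg.Agent.RankTwoOdd

open scoped commutatorElement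

variable {G : Type*} [Group G] [Finite G] {p : ℕ} [hp : Fact p.Prime]

theorem dvd_choose_two (hp2 : p ≠ 2) : p ∣ p.choose 2 :=
  hp.out.dvd_choose_self two_ne_zero (lt_of_le_of_ne hp.out.two_le (Ne.symm hp2))

/-- Class two and derived elements of order `p`: `p`-th powering is multiplicative. -/
theorem mul_pow_of_commutator (hp2 : p ≠ 2) {a b c : G} (hba : b * a = a * b * c)
    (hca : Commute c a) (hcb : Commute c b) (hcp : c ^ p = 1) : (a * b) ^ p = a ^ p * b ^ p := by
  obtain ⟨d, hd⟩ := dvd_choose_two (p := p) hp2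
  rw [LEOmega.mul_pow_class_two hba hca hcb, hd, pow_mul, hcp, one_pow, mul_one]

theorem card_eq_map_mul (N : Subgroup G) [N.Normal] {H : Subgroup G} (h : N ≤ H) :
    Nat.card H = Nat.card (H.map (QuotientGroup.mk' N)) * Nat.card N := by
  have h2 : N.relIndex H * Nat.card N = Nat.card H := by
    rw [Subgroup.relIndex, ← Nat.card_congr (Subgroup.subgroupOfEquivOfLe h).toEquiv]
    exact Subgroup.index_mul_card _
  rw [← Subgroup.relIndex_ker, QuotientGroup.ker_mk', h2]

theorem card_sup_zpowers (N : Subgroup G) [N.Normal] {x : G} (hx : x ^ p = 1) (hxN : x ∉ N) :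
    Nat.card ↥(N ⊔ Subgroup.zpowers x) = p * Nat.card N := by
  have h1 : N.map (QuotientGroup.mk' N) = ⊥ := by rw [Subgroup.map_eq_bot_iff, QuotientGroup.ker_mk']
  rw [card_eq_map_mul N le_sup_left, Subgroup.map_sup, h1, bot_sup_eq, MonoidHom.map_zpowers,
    Nat.card_zpowers, QuotientGroup.mk'_apply,
    orderOf_eq_prime (by rw [← QuotientGroup.mk_pow, hx, QuotientGroup.mk_one])
      (fun h => hxN ((QuotientGroup.eq_one_iff x).1 h))]

theorem rank_subgroup {k : ℕ} (hr : Cfsg.PRankLE p k G) (H : Subgroup G) : Cfsg.PRankLE p k H := by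
  intro A hA hAp
  haveI := hA
  rw [← Subgroup.card_map_of_injective H.subtype_injective]
  refine hr _ inferInstance ?_
  rintro _ ⟨a, ha, rfl⟩
  rw [← map_pow, hAp a ha, map_one]

theorem mem_of_rank (hr : Cfsg.PRankLE p 2 G) {E : Subgroup G} [E.Normal]
    (hEe : Cfsg.IsElementaryAbelian p E) (hEc : Nat.card E = p ^ 2) {w : G} (hw : w ^ p = 1)
    (hc : ∀ e ∈ E, e * w = w * e) : w ∈ E := by
  by_contra hwE
  have hcomm := OddOrder.OmegaCen.commute_of_le_sup_zpowers hEe.1 (x := w) (Subgroup.mem_centralizer_iff.2 hc)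
  have := hr _ hcomm (fun a ha => by
    obtain ⟨e, he, y, hy, rfl⟩ := Subgroup.mem_sup_of_normal_left.1 ha
    obtain ⟨i, rfl⟩ := Subgroup.mem_zpowers_iff.1 hy
    rw [((show Commute e w from hc e he).zpow_right i).mul_pow, hEe.2 e he, one_mul, ← zpow_natCast,
      zpow_comm, zpow_natCast, hw, one_zpow])
  rw [card_sup_zpowers E hw hwE, hEc] at this
  exact absurd this (not_le.2 (lt_mul_of_one_lt_left (pow_pos hp.out.pos 2) hp.out.one_lt))

theorem mem_zpowers_central {t : G} (ht : t ∈ Subgroup.center G) {w : G} (hw : w ∈ Subgroup.zpowers t)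
    (g : G) : Commute g w := Subgroup.mem_center_iff.1 ((Subgroup.zpowers_le.2 ht) hw) g

theorem pow_eq_one_of_mem_zpowers {t : G} (ht : orderOf t = p) {w : G} (hw : w ∈ Subgroup.zpowers t) :
    w ^ p = 1 := by
  obtain ⟨i, rfl⟩ := Subgroup.mem_zpowers_iff.1 hw
  rw [← zpow_natCast, zpow_comm, zpow_natCast, ← ht, pow_orderOf_eq_one, one_zpow]

/-- A non-cyclic `p`-group of rank two has a normal elementary abelian subgroup of order `p ^ 2`. -/
theorem exists_normal_elem (hp2 : p ≠ 2) (hG : IsPGroup p G) (hr : Cfsg.PRankLE p 2 G) (hnc : ¬ IsCyclic G) :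
    ∃ E : Subgroup G, E.Normal ∧ Cfsg.IsElementaryAbelian p E ∧ Nat.card E = p ^ 2 ∧
      ∃ t ∈ E, t ∈ Subgroup.center G ∧ orderOf t = p := by
  classical
  haveI : Nontrivial G := by
    by_contra h
    rw [not_nontrivial_iff_subsingleton] at h
    exact hnc isCyclic_of_subsingleton
  haveI := hG.center_nontrivial
  obtain ⟨m, hm0, hm⟩ := (IsPGroup.nontrivial_iff_card (hG.to_subgroup (Subgroup.center G))).1 inferInstance
  obtain ⟨⟨t, htc⟩, ht⟩ := exists_prime_orderOf_dvd_card' (G := ↥(Subgroup.center G)) p (hm ▸ dvd_pow_self p hm0.ne')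
  rw [Subgroup.orderOf_mk] at ht
  set T := Subgroup.zpowers t with hT
  haveI hTn : T.Normal := ⟨fun a ha g => by
    rw [(mem_zpowers_central htc ha g).eq, mul_inv_cancel_right]; exact ha⟩
  have hTe : Cfsg.IsElementaryAbelian p T := ⟨inferInstance, fun a ha => pow_eq_one_of_mem_zpowers ht ha⟩
  obtain ⟨A, hTA, hA⟩ := Finite.exists_le_maximal (a := T)
    (p := fun A : Subgroup G => A.Normal ∧ Cfsg.IsElementaryAbelian p A) ⟨hTn, hTe⟩
  obtain ⟨⟨hAn, hAe⟩, hAmax⟩ := hA
  haveI := hAn
  refine ⟨A, hAn, hAe, le_antisymm (hr A hAe.1 hAe.2) ?_, t, hTA (Subgroup.mem_zpowers t), htc, ht⟩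
  obtain ⟨a, ha⟩ := IsPGroup.iff_card.1 (hG.to_subgroup A)
  rw [ha]
  refine Nat.pow_le_pow_right hp.out.pos (Nat.le_of_not_lt fun hlt => hnc ?_)
  have hAT : A = T := (Subgroup.eq_of_le_of_card_ge hTA (by
    rw [hT, Nat.card_zpowers, ht, ha]
    exact (Nat.pow_le_pow_right hp.out.pos (Nat.lt_succ_iff.1 hlt)).trans (pow_one p).le)).symm
  refine IsolatedP.isCyclic_of_odd_unique hG hp2 t (ht ▸ pow_orderOf_eq_one t) fun y hy => ?_
  rw [← hT, ← hAT]
  refine OddOrder.OmegaCen.mem_of_centralizes hp2 hG A hAe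
    (fun B hBn hBe hAB => le_antisymm (hAmax ⟨hBn, hBe⟩ hAB) hAB) ?_ hy
  exact Subgroup.mem_centralizer_iff.2 fun w hw => (mem_zpowers_central htc (hT ▸ hAT ▸ hw) y).symm.eq

/-- With all elements of order `p` central, elements killed by `p ^ 2` are central modulo them. -/
theorem pcentral.{u} (hp2 : p ≠ 2) : ∀ (n : ℕ) (G : Type u) [Group G] [Finite G], Nat.card G = n →
    IsPGroup p G → (∀ x : G, x ^ p = 1 → x ∈ Subgroup.center G) →
    ∀ a g : G, (a ^ p) ^ p = 1 → ⁅a, g⁆ ^ p = 1 := by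
  intro n
  induction n using Nat.strong_induction_on with
  | _ n ih =>
  intro G _ _ hn hG hcen a g ha
  haveI := hG.isNilpotent
  by_cases htop : Subgroup.zpowers a = ⊤
  · obtain ⟨i, rfl⟩ := Subgroup.mem_zpowers_iff.1 (htop ▸ Subgroup.mem_top g)
    rw [commutatorElement_eq_one_iff_commute.2 ((Commute.refl a).zpow_right i), one_pow]
  obtain ⟨M, hM, haM⟩ := (eq_top_or_exists_le_coatom (Subgroup.zpowers a)).resolve_left htop
  haveI hMn : M.Normal :=
    Subgroup.NormalizerCondition.normal_of_coatom M Group.normalizerCondition_of_isNilpotent hM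
  have haM' : a ∈ M := haM (Subgroup.mem_zpowers a)
  have hlt : Nat.card M < n := hn ▸ lt_of_le_of_ne (Subgroup.card_le_card_group M)
    fun h => hM.1 ((Subgroup.card_eq_iff_eq_top M).1 h)
  have hg'M : g * a⁻¹ * g⁻¹ ∈ M := hMn.conj_mem _ (inv_mem haM') g
  have h1 := ih _ hlt M rfl (hG.to_subgroup M) (fun x hx => Subgroup.mem_center_iff.2 fun y =>
    Subtype.ext (Subgroup.mem_center_iff.1 (hcen (x : G) (by simpa using congrArg Subtype.val hx)) y))
    ⟨g * a⁻¹ * g⁻¹, hg'M⟩ ⟨a, haM'⟩ (Subtype.ext (by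
      simp only [Subgroup.coe_pow, Subgroup.coe_one, ← pow_mul, conj_pow, inv_pow]
      rw [pow_mul, ha, inv_one, mul_one, mul_inv_cancel]))
  set g' := g * a⁻¹ * g⁻¹ with hg'
  set c := a⁻¹ * g'⁻¹ * a * g' with hc
  have hcp : c ^ p = 1 := by
    have h2 : ⁅g', a⁆ ^ p = 1 := congrArg Subtype.val h1
    have e : c = (a * g')⁻¹ * (⁅g', a⁆⁻¹ * (a * g')) := by rw [hc, commutatorElement_def]; group
    have h3 : Commute (a * g') ⁅g', a⁆⁻¹ := Subgroup.mem_center_iff.1 (inv_mem (hcen _ h2)) _
    rw [e, ← h3.eq, inv_mul_cancel_left, inv_pow, h2, inv_one]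
  have hcc := Subgroup.mem_center_iff.1 (hcen c hcp)
  have hag : ⁅a, g⁆ = a * g' := by rw [hg', commutatorElement_def]; group
  have hap : a ^ p ∈ Subgroup.center G := hcen _ ha
  rw [hag, mul_pow_of_commutator hp2 (c := c⁻¹) (by rw [hc]; group)
    ((show Commute c a from (hcc a).symm).inv_left) ((show Commute c g' from (hcc g').symm).inv_left)
    (by rw [inv_pow, hcp, inv_one]), hg', conj_pow, inv_pow,
    Subgroup.mem_center_iff.1 (inv_mem hap) g, mul_inv_cancel_right, mul_inv_cancel]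

theorem class_eq {n : ℕ} (hn : Nat.card G = p ^ n) (h2 : 2 ≤ n)
    (h : (⊤ : Subgroup G).lowerCentralSeries (n - 2) ≠ ⊥) : Group.nilpotencyClass G = n - 1 := by
  have hG : IsPGroup p G := IsPGroup.of_card hn
  haveI := hG.isNilpotent
  have h1 := MaxClass.lcs_eq_bot hG hn h2
  rw [Subgroup.lowerCentralSeries_eq_bot_iff_nilpotencyClass_le] at h1
  have h3 : ¬ Group.nilpotencyClass G ≤ n - 2 :=
    fun hle => h (Subgroup.lowerCentralSeries_eq_bot_iff_nilpotencyClass_le.2 hle)
  omega

/-- An element with centralizer of order `p ^ 2` forces maximal class. -/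
theorem lcs_ne_bot_of_centralizer.{u} : ∀ (n : ℕ) (G : Type u) [Group G] [Finite G],
    Nat.card G = p ^ n → 2 ≤ n → ∀ x : G, Nat.card (Subgroup.centralizer ({x} : Set G)) = p ^ 2 →
      (⊤ : Subgroup G).lowerCentralSeries (n - 2) ≠ ⊥ := by
  intro n
  induction n using Nat.strong_induction_on with
  | _ n ih =>
  intro G _ _ hn h2 x hx
  have hG : IsPGroup p G := IsPGroup.of_card hn
  haveI := hG.isNilpotent
  haveI : Nontrivial G := Finite.one_lt_card_iff_nontrivial.1 (hn ▸ Nat.one_lt_pow (by omega) hp.out.one_lt)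
  rcases Nat.lt_or_ge n 3 with hn2 | hn3
  · rw [show n - 2 = 0 by omega, Subgroup.lowerCentralSeries_zero]
    exact top_ne_bot
  set Z := Subgroup.center G with hZ
  have hZx : Z ≤ Subgroup.centralizer ({x} : Set G) := Subgroup.center_le_centralizer _
  have hxc : x ∉ Z := fun h => by
    have htop : Subgroup.centralizer ({x} : Set G) = ⊤ := eq_top_iff.2 fun g _ =>
      Subgroup.mem_centralizer_singleton_iff.2 (Subgroup.mem_center_iff.1 h g)
    rw [htop, Subgroup.card_top, hn] at hx
    have := Nat.pow_right_injective hp.out.two_le hx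
    omega
  have hZne : Nat.card Z ≠ p ^ 2 := fun h => hxc (by
    rw [Subgroup.eq_of_le_of_card_ge hZx (by rw [hx, h])]
    exact Subgroup.mem_centralizer_singleton_iff.2 rfl)
  have hZp : Nat.card Z = p := by
    obtain ⟨i, hi2, hi⟩ := (Nat.dvd_prime_pow hp.out).1 (hx ▸ Subgroup.card_dvd_of_le hZx)
    haveI := hG.center_nontrivial
    have h1 : 1 < Nat.card Z := Finite.one_lt_card
    rw [hi] at h1 hZne ⊢
    interval_cases i
    · simp at h1
    · exact pow_one p
    · exact absurd rfl hZne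
  rcases Nat.lt_or_ge n 4 with hn3' | hn4
  · obtain rfl : n = 3 := by omega
    rw [show 3 - 2 = 1 from rfl, Subgroup.top_lowerCentralSeries_one]
    intro h
    exact hxc (Subgroup.mem_center_iff.2 fun g => by
      rw [← commutatorElement_eq_one_iff_mul_comm, ← Subgroup.mem_bot, ← h]
      exact Subgroup.commutator_mem_commutator (Subgroup.mem_top _) (Subgroup.mem_top _))
  set π := QuotientGroup.mk' Z with hπ
  have hQ : Nat.card (G ⧸ Z) = p ^ (n - 1) := by
    have h := Z.card_eq_card_quotient_mul_card_subgroup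
    rw [hn, hZp, show p ^ n = p ^ (n - 1) * p by rw [← pow_succ]; congr 1; omega] at h
    exact (Nat.eq_of_mul_eq_mul_right hp.out.pos h).symm
  set D := (Subgroup.centralizer ({π x} : Set (G ⧸ Z))).comap π with hD
  have hDmem : ∀ g ∈ D, ⁅g, x⁆ ∈ Z := fun g hg => (QuotientGroup.eq_one_iff _).1 (by
    show π ⁅g, x⁆ = 1
    rw [map_commutatorElement, commutatorElement_eq_one_iff_mul_comm]
    exact Subgroup.mem_centralizer_singleton_iff.1 hg)
  let φ : D →* G := MonoidHom.mk' (fun g => ⁅(g : G), x⁆) fun g h => by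
    have h1 := Subgroup.mem_center_iff.1 (hDmem h h.2)
    show ⁅(g : G) * (h : G), x⁆ = ⁅(g : G), x⁆ * ⁅(h : G), x⁆
    calc ⁅(g : G) * (h : G), x⁆ = (g : G) * ⁅(h : G), x⁆ * (g : G)⁻¹ * ⁅(g : G), x⁆ := by
          simp only [commutatorElement_def]; group
      _ = _ := by rw [h1 g, mul_inv_cancel_right, ← h1]
  have hker : φ.ker.map D.subtype ≤ Subgroup.centralizer ({x} : Set G) := by
    rintro _ ⟨g, hg, rfl⟩
    exact Subgroup.mem_centralizer_singleton_iff.2 (commutatorElement_eq_one_iff_mul_comm.1 hg)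
  have hDc : Nat.card D ≤ p * p ^ 2 := by
    have h1 := φ.ker.index_mul_card
    rw [Subgroup.index_ker] at h1
    rw [← h1]
    refine Nat.mul_le_mul (hZp ▸ Subgroup.card_le_of_le ?_) ?_
    · rintro _ ⟨g, rfl⟩; exact hDmem g g.2
    · rw [← Subgroup.card_map_of_injective (K := φ.ker) D.subtype_injective, ← hx]
      exact Subgroup.card_le_of_le hker
  have hZD : Z ≤ D := fun z hz => by
    have : π z = 1 := (QuotientGroup.eq_one_iff z).2 hz
    rw [hD, Subgroup.mem_comap, this]
    exact one_mem _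
  have hcent : Nat.card (Subgroup.centralizer ({π x} : Set (G ⧸ Z))) ≤ p ^ 2 := by
    have h1 := card_eq_map_mul Z hZD
    rw [hD, Subgroup.map_comap_eq_self_of_surjective (QuotientGroup.mk'_surjective Z), hZp, ← hD] at h1
    rw [h1, mul_comm p] at hDc
    exact Nat.le_of_mul_le_mul_right hDc hp.out.pos
  have hlcs : (⊤ : Subgroup (G ⧸ Z)).lowerCentralSeries (n - 1 - 2) ≠ ⊥ := by
    refine ih (n - 1) (by omega) (G ⧸ Z) hQ (by omega) (π x) (le_antisymm hcent ?_)
    obtain ⟨i, hi⟩ := IsPGroup.iff_card.1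
      ((hG.to_quotient Z).to_subgroup (Subgroup.centralizer ({π x} : Set (G ⧸ Z))))
    rw [hi]
    refine Nat.pow_le_pow_right hp.out.pos (Nat.le_of_not_lt fun hlt => ?_)
    -- otherwise the centre of the quotient would contain the image of `x`
    haveI : Nontrivial (G ⧸ Z) :=
      Finite.one_lt_card_iff_nontrivial.1 (hQ ▸ Nat.one_lt_pow (by omega) hp.out.one_lt)
    haveI := (hG.to_quotient Z).center_nontrivial
    have hle : Nat.card (Subgroup.centralizer ({π x} : Set (G ⧸ Z))) ≤ Nat.card (Subgroup.center (G ⧸ Z)) := by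
      obtain ⟨j, hj0, hj⟩ := (IsPGroup.nontrivial_iff_card
        ((hG.to_quotient Z).to_subgroup (Subgroup.center (G ⧸ Z)))).1 inferInstance
      rw [hi, hj]
      exact Nat.pow_le_pow_right hp.out.pos (by omega)
    have heq := Subgroup.eq_of_le_of_card_ge (Subgroup.center_le_centralizer ({π x} : Set (G ⧸ Z))) hle
    have hxz : π x ∈ Subgroup.center (G ⧸ Z) := heq ▸ Subgroup.mem_centralizer_singleton_iff.2 rfl
    have htop : Subgroup.centralizer ({π x} : Set (G ⧸ Z)) = ⊤ := eq_top_iff.2 fun g _ =>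
      Subgroup.mem_centralizer_singleton_iff.2 (Subgroup.mem_center_iff.1 hxz g)
    rw [htop, Subgroup.card_top, hQ] at hi
    have := Nat.pow_right_injective hp.out.two_le hi
    omega
  intro h
  apply hlcs
  rw [show n - 2 = n - 1 - 2 + 1 by omega, Subgroup.lowerCentralSeries_succ,
    Subgroup.commutator_eq_bot_iff_le_centralizer, Subgroup.coe_top, Subgroup.centralizer_univ] at h
  rw [← Subgroup.map_top_of_surjective π (QuotientGroup.mk'_surjective Z), ← Subgroup.map_lowerCentralSeries,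
    Subgroup.map_eq_bot_iff, QuotientGroup.ker_mk']
  exact h

/-- If all elements of order `p` lie in `E`, quotients by central subgroups of order `p` keep rank two. -/
theorem rank_quotient (hp2 : p ≠ 2) (E : Subgroup G) (hEc : Nat.card E ≤ p ^ 2)
    (hΩ : ∀ x : G, x ^ p = 1 → x ∈ E) {t : G} (htc : t ∈ Subgroup.center G) (ht : orderOf t = p)
    [(Subgroup.zpowers t).Normal] : Cfsg.PRankLE p 2 (G ⧸ Subgroup.zpowers t) := by
  intro A hA hAp
  set T := Subgroup.zpowers t with hT
  set π := QuotientGroup.mk' T with hπ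
  set B := A.comap π with hB
  have hBc : ∀ a ∈ B, ∀ b ∈ B, ⁅a, b⁆ ∈ T := fun a ha b hb => (QuotientGroup.eq_one_iff _).1 (by
    show π ⁅a, b⁆ = 1
    rw [map_commutatorElement, commutatorElement_eq_one_iff_mul_comm]
    exact congrArg Subtype.val (hA.is_comm.comm (⟨π a, ha⟩ : A) ⟨π b, hb⟩))
  have hBp : ∀ a ∈ B, a ^ p ∈ T := fun a ha => (QuotientGroup.eq_one_iff _).1 (by
    show π (a ^ p) = 1
    rw [map_pow]; exact hAp _ ha)
  let φ : B →* G := MonoidHom.mk' (fun b => (b : G) ^ p) fun a b => by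
    have hc : (a : G)⁻¹ * (b : G)⁻¹ * (a : G) * (b : G) ∈ T := by
      have := hBc _ (inv_mem a.2) _ (inv_mem b.2)
      rwa [commutatorElement_def, inv_inv, inv_inv] at this
    exact mul_pow_of_commutator hp2 (c := ((a : G)⁻¹ * (b : G)⁻¹ * (a : G) * (b : G))⁻¹) (by group)
      (mem_zpowers_central htc (inv_mem hc) _).symm (mem_zpowers_central htc (inv_mem hc) _).symm
      (pow_eq_one_of_mem_zpowers ht (inv_mem hc))
  have hBcard : Nat.card B ≤ p * p ^ 2 := by
    have h1 := φ.ker.index_mul_card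
    rw [Subgroup.index_ker] at h1
    rw [← h1]
    refine Nat.mul_le_mul ?_ ?_
    · refine le_trans (Subgroup.card_le_of_le (K := T) ?_) (by rw [hT, Nat.card_zpowers, ht])
      rintro _ ⟨g, rfl⟩; exact hBp g g.2
    · rw [← Subgroup.card_map_of_injective (K := φ.ker) B.subtype_injective]
      refine le_trans (Subgroup.card_le_of_le ?_) hEc
      rintro _ ⟨g, hg, rfl⟩
      exact hΩ _ hg
  have hTB : T ≤ B := fun z hz => by
    rw [hB, Subgroup.mem_comap, hπ, QuotientGroup.mk'_apply, (QuotientGroup.eq_one_iff z).2 hz]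
    exact one_mem _
  have h1 := card_eq_map_mul T hTB
  rw [hB, Subgroup.map_comap_eq_self_of_surjective (QuotientGroup.mk'_surjective T), ← hB] at h1
  have hTc : Nat.card T = p := by rw [hT, Nat.card_zpowers, ht]
  rw [h1, hTc, mul_comm p] at hBcard
  exact Nat.le_of_mul_le_mul_right hBcard hp.out.pos

/-- A metacyclic quotient by a central subgroup gives a cyclic derived group. -/
theorem derived_isCyclic (T : Subgroup G) [T.Normal] (hT : T ≤ Subgroup.center G)
    (h : Cfsg.IsMetacyclic (G ⧸ T)) : IsCyclic ↥(commutator G) := by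
  obtain ⟨N₀, hN₀n, hN₀c, hQc⟩ := h
  set π := QuotientGroup.mk' T with hπ
  set A := N₀.comap π with hA
  haveI : A.Normal := hN₀n.comap _
  obtain ⟨a₀, ha₀⟩ := hN₀c.exists_zpow_surjective
  obtain ⟨a, ha⟩ := QuotientGroup.mk'_surjective T (a₀ : G ⧸ T)
  have haA : a ∈ A := by rw [hA, Subgroup.mem_comap, ← hπ] at *; rw [ha]; exact a₀.2
  have hAmem : ∀ y ∈ A, ∃ i : ℤ, ∃ z ∈ T, y = a ^ i * z := by
    intro y hy
    obtain ⟨i, hi⟩ := ha₀ ⟨π y, hy⟩
    have hi' : π (a ^ i) = π y := by rw [map_zpow, hπ, ha]; exact congrArg Subtype.val hi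
    obtain ⟨w, hw, he⟩ := (QuotientGroup.mk'_eq_mk' T).1 hi'
    exact ⟨i, w, hw, he.symm⟩
  have hcT : ∀ z ∈ T, ∀ g : G, Commute g z := fun z hz g => Subgroup.mem_center_iff.1 (hT hz) g
  have hAc : ∀ u ∈ A, ∀ v ∈ A, Commute u v := by
    intro u hu v hv
    obtain ⟨i, z, hz, rfl⟩ := hAmem u hu
    obtain ⟨j, w, hw, rfl⟩ := hAmem v hv
    exact (((Commute.refl a).zpow_zpow i j).mul_right (hcT w hw _)).mul_left (hcT z hz _).symm
  obtain ⟨q, hq⟩ := hQc.exists_zpow_surjective
  obtain ⟨b₁, rfl⟩ := QuotientGroup.mk'_surjective N₀ q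
  obtain ⟨b, rfl⟩ := QuotientGroup.mk'_surjective T b₁
  have hgen : ∀ g : G, ∃ k : ℤ, (b ^ k)⁻¹ * g ∈ A := by
    intro g
    obtain ⟨k, hk⟩ := hq (QuotientGroup.mk' N₀ (π g))
    refine ⟨k, ?_⟩
    rw [hA, Subgroup.mem_comap, map_mul, map_inv, map_zpow]
    exact QuotientGroup.eq.1 ((map_zpow (QuotientGroup.mk' N₀) _ k).trans hk)
  have hbA : ∀ u ∈ A, ⁅b, u⁆ ∈ A := fun u hu => by
    rw [commutatorElement_def]; exact mul_mem (‹A.Normal›.conj_mem u hu b) (inv_mem hu)
  let φ : A →* G := MonoidHom.mk' (fun u => ⁅b, (u : G)⁆) fun u v => by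
    show ⁅b, (u : G) * (v : G)⁆ = ⁅b, (u : G)⁆ * ⁅b, (v : G)⁆
    have e : ⁅b, (u : G) * (v : G)⁆ = ⁅b, (u : G)⁆ * ((u : G) * ⁅b, (v : G)⁆ * (u : G)⁻¹) := by
      simp only [commutatorElement_def]; group
    rw [e, (hAc _ u.2 _ (hbA _ v.2)).eq, mul_inv_cancel_right]
  set c := ⁅b, a⁆ with hc
  have hcA : c ∈ A := hbA a haA
  set C := Subgroup.zpowers c with hC
  have hbc : b * c * b⁻¹ ∈ C := by
    obtain ⟨i, z, hz, hiz⟩ := hAmem c hcA
    have e : b * c * b⁻¹ = φ ⟨c, hcA⟩ * c := by
      show b * c * b⁻¹ = ⁅b, c⁆ * c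
      rw [commutatorElement_def]; group
    have e2 : φ ⟨c, hcA⟩ = c ^ i := by
      have hzA : z ∈ A := by
        rw [hA, Subgroup.mem_comap, hπ, QuotientGroup.mk'_apply, (QuotientGroup.eq_one_iff z).2 hz]
        exact one_mem _
      have : (⟨c, hcA⟩ : A) = ⟨a, haA⟩ ^ i * ⟨z, hzA⟩ := Subtype.ext (by simpa using hiz)
      rw [this, map_mul, map_zpow]
      show ⁅b, a⁆ ^ i * ⁅b, z⁆ = c ^ i
      rw [commutatorElement_eq_one_iff_commute.2 (hcT z hz b), mul_one]
    rw [e, e2]
    exact mul_mem (zpow_mem (Subgroup.mem_zpowers c) i) (Subgroup.mem_zpowers c)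
  haveI hCn : C.Normal := by
    rw [← Subgroup.normalizer_eq_top_iff, eq_top_iff]
    intro g _
    obtain ⟨k, hk⟩ := hgen g
    rw [← mul_inv_cancel_left (b ^ k) g]
    refine mul_mem (zpow_mem ?_ k) ?_
    · rw [Subgroup.mem_normalizer_iff_map_conj_eq]
      refine Subgroup.eq_of_le_of_card_ge ?_ (Subgroup.card_map_of_injective (MulAut.conj b).injective).ge
      rw [hC, MonoidHom.map_zpowers, Subgroup.zpowers_le]
      exact hbc
    · refine (?_ : A ≤ Subgroup.normalizer (C : Set G)) hk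
      refine le_trans ?_ (Subgroup.centralizer_le_normalizer _)
      exact fun u hu => Subgroup.mem_centralizer_iff.2 fun w hw => hAc w (Subgroup.zpowers_le.2 hcA hw) u hu
  have hle : commutator G ≤ C := by
    rw [commutator_def, Subgroup.commutator_le]
    intro r _ s _
    set f := QuotientGroup.mk' C with hf
    have hab : Commute (f b) (f a) := by
      rw [← commutatorElement_eq_one_iff_commute, ← map_commutatorElement, hf, QuotientGroup.mk'_apply,
        QuotientGroup.eq_one_iff]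
      exact Subgroup.mem_zpowers c
    have hform : ∀ g : G, ∃ k i : ℤ, ∃ z ∈ T, f g = f b ^ k * f a ^ i * f z := by
      intro g
      obtain ⟨k, hk⟩ := hgen g
      obtain ⟨i, z, hz, hiz⟩ := hAmem _ hk
      exact ⟨k, i, z, hz, by rw [eq_mul_of_inv_mul_eq hiz, map_mul, map_mul, map_zpow, map_zpow, mul_assoc]⟩
    obtain ⟨k, i, z, hz, hr'⟩ := hform r
    obtain ⟨k', i', z', hz', hs'⟩ := hform s
    rw [← QuotientGroup.eq_one_iff, ← QuotientGroup.mk'_apply, ← hf, map_commutatorElement,
      commutatorElement_eq_one_iff_commute, hr', hs']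
    have cz : ∀ g : G, Commute (f g) (f z') := fun g => (hcT z' hz' g).map f
    refine (Commute.mul_left ?_ ((hcT z hz (b ^ k' * a ^ i' * z')).symm.map f |> fun h => by
      simpa [map_mul, map_zpow] using h))
    refine Commute.mul_left ?_ ?_
    · exact (((Commute.refl _).zpow_zpow k k').mul_right (hab.zpow_zpow k i')).mul_right ((cz b).zpow_left k)
    · exact ((hab.symm.zpow_zpow i k').mul_right ((Commute.refl _).zpow_zpow i i')).mul_right ((cz a).zpow_left i)
  exact isCyclic_of_injective (Subgroup.inclusion hle) (Subgroup.inclusion_injective hle)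

/-- A `p`-group (`p` odd) with cyclic derived group and at most `p ^ 2` elements of order dividing `p`
is metacyclic. -/
theorem metacyclic_of_derived_cyclic (hp2 : p ≠ 2) (hG : IsPGroup p G) (hD : IsCyclic ↥(commutator G))
    (E : Subgroup G) (hEc : Nat.card E ≤ p ^ 2) (hΩ : ∀ x : G, x ^ p = 1 → x ∈ E) :
    Cfsg.IsMetacyclic G := by
  classical
  haveI := hG.isNilpotent
  have hreg : Cfsg.IsRegularPGroup p G := by
    refine RegularP.regular_of_levelOne ⟨hG, fun a b => ?_⟩
    set K := Subgroup.closure ({a, b} : Set G) with hK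
    set a' : K := ⟨a, Subgroup.subset_closure (by simp)⟩ with ha'
    set b' : K := ⟨b, Subgroup.subset_closure (by simp)⟩ with hb'
    set N : Subgroup K := Cfsg.powerClosure p 1 (commutator K) with hN
    haveI hNn : N.Normal := Subgroup.normalizer_eq_top_iff.1 (top_le_iff.1
      (RegularP.normalizer_powerClosure (le_of_eq (Subgroup.normalizer_eq_top_iff.2 inferInstance).symm)))
    set π := QuotientGroup.mk' N with hπ
    have hcomm : commutator (K ⧸ N) = (commutator K).map π := by
      rw [commutator_def, commutator_def, Subgroup.map_commutator, ← MonoidHom.range_eq_map,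
        MonoidHom.range_eq_top.2 (QuotientGroup.mk'_surjective N)]
    have hexp : ∀ w ∈ commutator (K ⧸ N), w ^ p = 1 := by
      intro w hw
      rw [hcomm] at hw
      obtain ⟨d, hd, rfl⟩ := hw
      rw [← map_pow, hπ, QuotientGroup.mk'_apply, QuotientGroup.eq_one_iff]
      exact Subgroup.subset_closure ⟨d, hd, by rw [pow_one]⟩
    have hcyc : IsCyclic ↥(commutator (K ⧸ N)) := by
      rw [hcomm]
      haveI : IsCyclic ↥(commutator K) := by
        have hle : (commutator K).map K.subtype ≤ commutator G := by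
          rw [commutator_def, Subgroup.map_commutator]
          exact Subgroup.commutator_mono le_top le_top
        haveI := hD
        haveI : IsCyclic ↥((commutator K).map K.subtype) :=
          isCyclic_of_injective (Subgroup.inclusion hle) (Subgroup.inclusion_injective hle)
        exact isCyclic_of_surjective ((commutator K).equivMapOfInjective _ K.subtype_injective).symm.toMonoidHom
          (MulEquiv.surjective _)
      exact isCyclic_of_surjective (π.subgroupMap (commutator K)) (π.subgroupMap_surjective _)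
    have hcl : ⁅commutator (K ⧸ N), (⊤ : Subgroup (K ⧸ N))⁆ = ⊥ := by
      rw [Subgroup.commutator_eq_bot_iff_le_centralizer, Subgroup.coe_top, Subgroup.centralizer_univ]
      have hQ : IsPGroup p (K ⧸ N) := (hG.to_subgroup K).to_quotient N
      obtain ⟨j, hj⟩ := IsPGroup.iff_card.1 (hQ.to_subgroup (commutator (K ⧸ N)))
      rcases j with _ | j
      · rw [pow_zero, Subgroup.card_eq_one] at hj; rw [hj]; exact bot_le
      refine OddOrder.OmegaCen.le_center_of_prime_card hQ ?_
      obtain ⟨g, hg⟩ := (Subgroup.isCyclic_iff_exists_zpowers_eq_top _).1 hcyc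
      have hgm : g ∈ commutator (K ⧸ N) := hg ▸ Subgroup.mem_zpowers g
      rw [← hg, Nat.card_zpowers] at hj ⊢
      refine le_antisymm (Nat.le_of_dvd hp.out.pos (orderOf_dvd_of_pow_eq_one (hexp g hgm))) ?_
      rw [hj]; exact Nat.le_self_pow (Nat.succ_ne_zero j) p
    have heq := ClassThree.mul_pow_prime (G := K ⧸ N) (Or.inl ⟨hp2, hcl⟩) (a := π a') (b := π b') (Or.inr hexp)
    rw [← map_mul, ← map_pow, ← map_pow, ← map_pow, ← map_mul, eq_comm, hπ, QuotientGroup.mk'_eq_mk'] at heq
    obtain ⟨c, hc, he⟩ := heq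
    refine ⟨(c : G), ?_, ?_⟩
    · have h := OmegaSmall.map_powerClosure_le (p := p) K.subtype 1 (commutator K) (Subgroup.mem_map_of_mem _ hc)
      rwa [Subgroup.map_subtype_commutator] at h
    · rw [pow_one]
      have := congrArg Subtype.val he
      simpa [ha', hb'] using this.symm
  set U := Cfsg.powerClosure p 1 (⊤ : Subgroup G) with hU
  have hidx : U.index ≤ p ^ 2 := by
    rw [← OmegaSmall.card_omega hreg]
    exact (Subgroup.card_le_of_le ((Subgroup.closure_le _).2 fun y hy => hΩ y hy.2)).trans hEc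
  obtain ⟨d, hd⟩ := (Subgroup.isCyclic_iff_exists_zpowers_eq_top _).1 hD
  by_cases hd1 : d = 1
  · by_cases hU1 : U = ⊤
    · haveI : Subsingleton G := by
        have h1 := OmegaSmall.card_omega hreg
        rw [← hU, hU1, Subgroup.index_top, Subgroup.card_eq_one] at h1
        by_contra hns
        rw [not_subsingleton_iff_nontrivial] at hns
        obtain ⟨m, hm0, hm⟩ := (IsPGroup.nontrivial_iff_card hG).1 hns
        obtain ⟨x, hx⟩ := exists_prime_orderOf_dvd_card' p (hm ▸ dvd_pow_self p hm0.ne')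
        have : x ∈ Cfsg.omegaOne p (⊤ : Subgroup G) :=
          Subgroup.subset_closure ⟨Subgroup.mem_top x, hx ▸ pow_orderOf_eq_one x⟩
        rw [h1, Subgroup.mem_bot] at this
        rw [this, orderOf_one] at hx
        exact hp.out.one_lt.ne hx
      exact ⟨⊥, inferInstance, isCyclic_of_subsingleton, isCyclic_of_subsingleton⟩
    · obtain ⟨x, -, hx⟩ := SetLike.exists_of_lt (lt_top_iff_ne_top.2 hU1)
      refine OmegaSmall.isMetacyclic_of_not_mem hreg hidx hx ?_
      rw [← hd, hd1, Subgroup.zpowers_one_eq_bot]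
      exact bot_le
  -- a root of `d` of largest height
  obtain ⟨k, x, hx, hxU⟩ : ∃ k, ∃ x : G, x ^ p ^ k = d ∧ x ∉ U := by
    obtain ⟨m, hm⟩ := IsPGroup.iff_card.1 hG
    by_contra hcon
    push Not at hcon
    have hall : ∀ k, ∃ x : G, x ^ p ^ k = d := by
      intro k
      induction k with
      | zero => exact ⟨d, by rw [pow_zero, pow_one]⟩
      | succ k ihk =>
        obtain ⟨x, hx⟩ := ihk
        have hxU : x ∈ (U : Set G) := hcon k x hx
        rw [hU, ← RegularP.powerClosure_eq (RegularP.levelReg_of_regular hreg 1)] at hxU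
        obtain ⟨y, -, rfl⟩ := hxU
        exact ⟨y, by rw [pow_succ', pow_mul, ← hx, pow_one]⟩
    obtain ⟨x, hx⟩ := hall m
    rw [← hm, pow_card_eq_one'] at hx
    exact hd1 hx.symm
  refine OmegaSmall.isMetacyclic_of_not_mem hreg hidx hxU ?_
  rw [← hd, Subgroup.zpowers_le, ← hx]
  exact pow_mem (Subgroup.mem_zpowers x) _

end Cfsg.Agent.RankTwoOdd
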