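import Cfsg.Agent.Lib.FGStruct.RankTwoOdd.Frame
import Cfsg.Agent.Lib.PLocal.MaxClass

/-!
Blackburn's classification of the `p`-groups of rank at most two, `p` odd.
-/

set_option autoImplicit false
set_option linter.unusedSectionVars false
set_option linter.style.haveILetI false

namespace Cfsg.Agent.RankTwoOdd

open scoped commutatorElement

variable {G : Type*} [Group G] [Finite G] {p : ℕ} [hp : Fact p.Prime]

namespace Frame

variable {E : Subgroup G} {t x : G} (F : Frame p E t x)
include F

/-- Commutators of `E ⊔ ⟨x⟩` lie in `⟨t⟩` and its elements have order dividing `p`. -/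
theorem sup_facts (hp2 : p ≠ 2) (hG : IsPGroup p G) :
    (∀ a ∈ E ⊔ Subgroup.zpowers x, ∀ b ∈ E ⊔ Subgroup.zpowers x, ⁅a, b⁆ ∈ Subgroup.zpowers t) ∧
      ∀ a ∈ E ⊔ Subgroup.zpowers x, a ^ p = 1 := by
  haveI := F.En
  haveI := F.T_normal
  set π := QuotientGroup.mk' (Subgroup.zpowers t) with hπ
  have hEc : ∀ e ∈ E, ∀ g : G, Commute (π g) (π e) := fun e he g => by
    rw [← commutatorElement_eq_one_iff_commute, ← map_commutatorElement]
    exact (QuotientGroup.eq_one_iff _).2 (F.comm_mem hG g he)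
  refine ⟨fun a ha b hb => ?_, fun a ha => ?_⟩
  · obtain ⟨e, he, y, hy, rfl⟩ := Subgroup.mem_sup_of_normal_left.1 ha
    obtain ⟨f, hf, y', hy', rfl⟩ := Subgroup.mem_sup_of_normal_left.1 hb
    obtain ⟨i, rfl⟩ := Subgroup.mem_zpowers_iff.1 hy
    obtain ⟨j, rfl⟩ := Subgroup.mem_zpowers_iff.1 hy'
    rw [← QuotientGroup.eq_one_iff]
    show π ⁅e * x ^ i, f * x ^ j⁆ = 1
    rw [map_commutatorElement, commutatorElement_eq_one_iff_commute, map_mul, map_mul]
    exact (((hEc f hf e).mul_right ((hEc e he (x ^ j)).symm)).mul_left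
      ((hEc f hf (x ^ i)).mul_right (((Commute.refl x).zpow_zpow i j).map π)))
  · obtain ⟨e, he, y, hy, rfl⟩ := Subgroup.mem_sup_of_normal_left.1 ha
    obtain ⟨i, rfl⟩ := Subgroup.mem_zpowers_iff.1 hy
    have hxi : (x ^ i) ^ p = 1 := by rw [← zpow_natCast, zpow_comm, zpow_natCast, F.xp, one_zpow]
    have hc : e⁻¹ * (x ^ i)⁻¹ * e * (x ^ i) ∈ Subgroup.zpowers t := by
      have := inv_mem (F.comm_mem hG (x ^ i)⁻¹ (inv_mem he))
      rwa [commutatorElement_inv, commutatorElement_def, inv_inv, inv_inv] at this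
    rw [mul_pow_of_commutator hp2 (c := (e⁻¹ * (x ^ i)⁻¹ * e * (x ^ i))⁻¹) (by group)
      (mem_zpowers_central F.tc (inv_mem hc) _).symm (mem_zpowers_central F.tc (inv_mem hc) _).symm
      (pow_eq_one_of_mem_zpowers F.tord (inv_mem hc)), F.Ee.2 e he, hxi, one_mul]

end Frame

/-- An element of order `p` outside `E` gives either a normal subgroup of exponent `p` and order
`p ^ 3`, or maximal class for `p = 3`. -/
theorem outside_case (hp2 : p ≠ 2) (hG : IsPGroup p G) (hr : Cfsg.PRankLE p 2 G) {n : ℕ}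
    (hn : Nat.card G = p ^ n) {E : Subgroup G} [E.Normal] (hEe : Cfsg.IsElementaryAbelian p E)
    (hEc : Nat.card E = p ^ 2) {t : G} (htE : t ∈ E) (htc : t ∈ Subgroup.center G) (ht : orderOf t = p)
    {x : G} (hx : x ^ p = 1) (hxE : x ∉ E) :
    (∃ (E : Subgroup G) (t x : G), Frame p E t x) ∨
      (p = 3 ∧ 2 ≤ n ∧ (⊤ : Subgroup G).lowerCentralSeries (n - 2) ≠ ⊥) := by
  classical
  set X := E ⊔ Subgroup.zpowers x with hX
  by_cases hXn : X.Normal
  · exact Or.inl ⟨E, t, x, ‹E.Normal›, hEe, hEc, htE, htc, ht, hx, hxE, hXn⟩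
  right
  have hXc : Nat.card X = p ^ 3 := by rw [hX, card_sup_zpowers E hx hxE, hEc]; ring
  have h3 : p = 3 := by
    by_contra hne
    have hp3 : 3 < p := by have := hp.out.two_le; omega
    have hmul := OmegaSmall.mul_pow_of_rank hp3 _ G le_rfl hG (fun A hA => hr A hA.1 hA.2)
    let O : Subgroup G :=
    { carrier := {y | y ^ p = 1}
      one_mem' := one_pow p
      mul_mem' := fun {a b} ha hb => hmul a b ha hb
      inv_mem' := fun {a} (ha : a ^ p = 1) => show a⁻¹ ^ p = 1 by rw [inv_pow, ha, inv_one] }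
    have hOn : O.Normal := ⟨fun a (ha : a ^ p = 1) g => show (g * a * g⁻¹) ^ p = 1 by
      rw [conj_pow, ha, mul_one, mul_inv_cancel]⟩
    have hXO : X ≤ O := sup_le (fun e he => hEe.2 e he) (Subgroup.zpowers_le.2 hx)
    have hO : Nat.card O ≤ p ^ 3 := OmegaSmall.card_le_cube hp2 (hG.to_subgroup O)
      (fun a => Subtype.ext (show (a : G) ^ p = 1 from a.2)) (fun A hA => rank_subgroup hr O A hA.1 hA.2)
    exact hXn (Subgroup.eq_of_le_of_card_ge hXO (hXc ▸ hO) ▸ hOn)
  set N := Subgroup.normalizer (X : Set G) with hN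
  have hEN : E ≤ N := le_sup_left.trans Subgroup.le_normalizer
  have hxN : x ∈ N := Subgroup.le_normalizer (Subgroup.mem_sup_right (Subgroup.mem_zpowers x))
  have hXsup : (E.subgroupOf N ⊔ Subgroup.zpowers (⟨x, hxN⟩ : N)) = X.subgroupOf N := by
    apply Subgroup.map_injective N.subtype_injective
    rw [Subgroup.map_sup, MonoidHom.map_zpowers, Subgroup.map_subgroupOf_eq_of_le hEN,
      Subgroup.map_subgroupOf_eq_of_le Subgroup.le_normalizer]
    rfl
  have hF : Frame p (E.subgroupOf N) (⟨t, hEN htE⟩ : N) (⟨x, hxN⟩ : N) := by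
    refine ⟨inferInstance, ⟨?_, ?_⟩, ?_, htE, ?_, by simpa using ht, Subtype.ext (by simpa using hx), hxE, ?_⟩
    · exact ⟨⟨fun a b => Subtype.ext (Subtype.ext
        (show ((a : N) : G) * ((b : N) : G) = ((b : N) : G) * ((a : N) : G) from congrArg Subtype.val
          (hEe.1.is_comm.comm (⟨_, a.2⟩ : E) ⟨_, b.2⟩)))⟩⟩
    · exact fun a ha => Subtype.ext (by simpa using hEe.2 _ ha)
    · rw [Nat.card_congr (Subgroup.subgroupOfEquivOfLe hEN).toEquiv, hEc]
    · exact Subgroup.mem_center_iff.2 fun g => Subtype.ext (Subgroup.mem_center_iff.1 htc g)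
    · rw [hXsup]; infer_instance
  have hrN := rank_subgroup hr N
  have hGN := hG.to_subgroup N
  have hCx : Subgroup.centralizer ({x} : Set G) ≤ N := by
    intro g hg
    rw [hN, Subgroup.mem_normalizer_iff_map_conj_eq]
    refine Subgroup.eq_of_le_of_card_ge ?_ (Subgroup.card_map_of_injective (MulAut.conj g).injective).ge
    rw [hX, Subgroup.map_sup, MonoidHom.map_zpowers]
    refine sup_le ?_ (Subgroup.zpowers_le.2 ?_)
    · rintro _ ⟨e, he, rfl⟩
      exact Subgroup.mem_sup_left (‹E.Normal›.conj_mem e he g)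
    · rw [MonoidHom.coe_coe, MulAut.conj_apply, Subgroup.mem_centralizer_singleton_iff.1 hg, mul_inv_cancel_right]
      exact Subgroup.mem_sup_right (Subgroup.mem_zpowers x)
  have hcx : Nat.card (Subgroup.centralizer ({x} : Set G)) =
      p * Nat.card (frameC (E.subgroupOf N) (⟨x, hxN⟩ : N)) := by
    rw [← hF.card_centralizer hp2 hGN hrN, ← Subgroup.card_map_of_injective N.subtype_injective]
    refine congrArg (fun H : Subgroup G => Nat.card H) (le_antisymm (fun g hg => ?_) ?_)
    · exact ⟨⟨g, hCx hg⟩, Subgroup.mem_centralizer_singleton_iff.2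
        (Subtype.ext (Subgroup.mem_centralizer_singleton_iff.1 hg)), rfl⟩
    · rintro _ ⟨g, hg, rfl⟩
      exact Subgroup.mem_centralizer_singleton_iff.2
        (congrArg Subtype.val (Subgroup.mem_centralizer_singleton_iff.1 hg))
  have hn2 : 2 ≤ n := by
    by_contra h
    have := Subgroup.card_le_card_group X
    rw [hXc, hn] at this
    have := (Nat.pow_le_pow_iff_right hp.out.one_lt).1 this
    omega
  refine ⟨h3, hn2, lcs_ne_bot_of_centralizer n G hn hn2 x ?_⟩
  rw [hcx, sq]
  congr 1
  refine le_antisymm (Nat.le_of_not_lt fun hC => hXn ?_) ?_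
  · haveI := hG.isNilpotent
    have htop : N = ⊤ := by
      by_contra hne
      refine (Group.normalizerCondition_of_isNilpotent N (lt_top_iff_ne_top.2 hne)).not_ge ?_
      intro g hg
      rw [hN, Subgroup.mem_normalizer_iff_map_conj_eq]
      refine Subgroup.eq_of_le_of_card_ge ?_ (Subgroup.card_map_of_injective (MulAut.conj g).injective).ge
      rw [hX, Subgroup.map_sup, MonoidHom.map_zpowers]
      refine sup_le ?_ (Subgroup.zpowers_le.2 ?_)
      · rintro _ ⟨e, he, rfl⟩
        exact Subgroup.mem_sup_left (‹E.Normal›.conj_mem e he g)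
      · rw [MonoidHom.coe_coe, MulAut.conj_apply]
        have hgx : g * x * g⁻¹ ∈ N := (Subgroup.mem_normalizer_iff.1 hg x).1 hxN
        have h1 := hF.omega_three h3 hGN hrN hC (y := ⟨g * x * g⁻¹, hgx⟩)
          (Subtype.ext (by simp [conj_pow, hx]))
        rw [hXsup] at h1
        exact h1
    rw [hN] at htop
    exact Subgroup.normalizer_eq_top_iff.1 htop
  · rw [show p = Nat.card (Subgroup.zpowers (⟨t, hEN htE⟩ : N)) from hF.Tcard.symm]
    exact Subgroup.card_le_of_le (Subgroup.zpowers_le.2 hF.t_mem_C)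

/-- All elements of order `p` in `E` and a quotient of maximal class: maximal class or metacyclic. -/
theorem inside_max_class (hp2 : p ≠ 2) (hG : IsPGroup p G) {n : ℕ} (hn : Nat.card G = p ^ n) (h4 : 4 ≤ n)
    {E : Subgroup G} (hEc : Nat.card E = p ^ 2) (hΩ : ∀ x : G, x ^ p = 1 → x ∈ E) (hEp : ∀ e ∈ E, e ^ p = 1)
    {t : G} (htc : t ∈ Subgroup.center G) (ht : orderOf t = p) [(Subgroup.zpowers t).Normal]
    (htk : ∀ k : ℕ, (⊤ : Subgroup G).lowerCentralSeries k ≠ ⊥ →
      (⊤ : Subgroup G).lowerCentralSeries (k + 1) = ⊥ → t ∈ (⊤ : Subgroup G).lowerCentralSeries k)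
    (hQ : (⊤ : Subgroup (G ⧸ Subgroup.zpowers t)).lowerCentralSeries (n - 1 - 2) ≠ ⊥)
    (hbot : (⊤ : Subgroup G).lowerCentralSeries (n - 2) = ⊥) :
    IsCyclic ↥(commutator G) := by
  classical
  haveI := hG.isNilpotent
  set T := Subgroup.zpowers t with hT
  set π := QuotientGroup.mk' T with hπ
  have hTc : Nat.card T = p := by rw [hT, Nat.card_zpowers, ht]
  have hQc : Nat.card (G ⧸ T) = p ^ (n - 1) := by
    have h := T.card_eq_card_quotient_mul_card_subgroup
    rw [hn, hTc, show p ^ n = p ^ (n - 1) * p by rw [← pow_succ]; congr 1; omega] at h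
    exact (Nat.eq_of_mul_eq_mul_right hp.out.pos h).symm
  have hQp := hG.to_quotient T
  have hclQ := class_eq hQc (by omega) hQ
  obtain ⟨k, rfl⟩ : ∃ k, n = k + 4 := ⟨n - 4, by omega⟩
  simp only [show k + 4 - 1 = k + 3 from rfl, show k + 4 - 2 = k + 2 from rfl,
    show k + 3 - 2 = k + 1 from rfl, show k + 3 - 1 = k + 2 from rfl] at *
  set L := (⊤ : Subgroup G).lowerCentralSeries (k + 1) with hL
  have hmap : ∀ j : ℕ, ((⊤ : Subgroup G).lowerCentralSeries j).map π =
      (⊤ : Subgroup (G ⧸ T)).lowerCentralSeries j := fun j => by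
    rw [Subgroup.map_lowerCentralSeries, Subgroup.map_top_of_surjective π (QuotientGroup.mk'_surjective T)]
  have hTL : T ≤ L := Subgroup.zpowers_le.2 (htk (k + 1) (fun h => hQ (by rw [← hmap, h, Subgroup.map_bot])) hbot)
  have hLcard : Nat.card L = p ^ 2 := by
    have h1 := MaxClass.card_lcs_eq hQc (by omega) (by omega : _ = k + 3 - 1) (k := k) (by omega)
    rw [show k + 3 - 2 - k = 1 by omega, pow_one, ← hmap] at h1
    rw [card_eq_map_mul T hTL, h1, hTc, sq]
  have hLc : L ≤ Subgroup.center G := by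
    rw [show k + 2 = k + 1 + 1 from rfl, Subgroup.lowerCentralSeries_succ,
      Subgroup.commutator_eq_bot_iff_le_centralizer, Subgroup.coe_top, Subgroup.centralizer_univ] at hbot
    exact hbot
  rcases Nat.eq_zero_or_pos k with rfl | hk
  · -- order `p ^ 4`
    have hLD : L = commutator G := by rw [hL, Subgroup.top_lowerCentralSeries_one]
    have hnc : ¬ IsCyclic (G ⧸ commutator G) := by
      intro h
      have := MaxClass.commutator_eq_bot_of_cyclic (G := G)
      rw [← hLD] at this
      rw [this, Subgroup.card_bot] at hLcard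
      exact (Nat.one_lt_pow two_ne_zero hp.out.one_lt).ne hLcard
    obtain ⟨a, -, ha⟩ : ∃ a ∈ (⊤ : Subgroup G), a ∉ commutator G := SetLike.exists_of_lt (lt_top_iff_ne_top.2 fun h => by
      rw [hLD, h, Subgroup.card_top, hn] at hLcard
      have := Nat.pow_right_injective hp.out.two_le hLcard
      omega)
    set M := commutator G ⊔ Subgroup.zpowers a with hM
    have hMne : M ≠ ⊤ := fun h => hnc (by
      refine ⟨⟨QuotientGroup.mk' (commutator G) a, fun q => ?_⟩⟩
      obtain ⟨g, rfl⟩ := QuotientGroup.mk'_surjective (commutator G) q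
      obtain ⟨u, hu, y, hy, rfl⟩ := Subgroup.mem_sup_of_normal_left.1 (h.symm ▸ Subgroup.mem_top g : g ∈ M)
      obtain ⟨i, rfl⟩ := Subgroup.mem_zpowers_iff.1 hy
      exact ⟨i, by simp only; rw [map_mul, QuotientGroup.mk'_apply _ u, (QuotientGroup.eq_one_iff u).2 hu, one_mul, map_zpow]⟩)
    obtain ⟨b, -, hb⟩ : ∃ b ∈ (⊤ : Subgroup G), b ∉ M := SetLike.exists_of_lt (lt_top_iff_ne_top.2 hMne)
    set K := M ⊔ Subgroup.zpowers b with hK
    have hKtop : K = ⊤ := by
      have hlt1 : commutator G < M := lt_of_le_of_ne le_sup_left fun h =>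
        ha (h ▸ Subgroup.mem_sup_right (Subgroup.mem_zpowers a))
      have hlt2 : M < K := lt_of_le_of_ne le_sup_left fun h =>
        hb (h ▸ Subgroup.mem_sup_right (Subgroup.mem_zpowers b))
      obtain ⟨i, hi⟩ := IsPGroup.iff_card.1 (hG.to_subgroup M)
      obtain ⟨j, hj⟩ := IsPGroup.iff_card.1 (hG.to_subgroup K)
      have h1 : Nat.card (commutator G) < Nat.card M := Set.ncard_lt_ncard (SetLike.coe_ssubset_coe.2 hlt1) (Set.toFinite _)
      have h2 : Nat.card M < Nat.card K := Set.ncard_lt_ncard (SetLike.coe_ssubset_coe.2 hlt2) (Set.toFinite _)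
      rw [← hLD, hLcard, hi, Nat.pow_lt_pow_iff_right hp.out.one_lt] at h1
      rw [hi, hj, Nat.pow_lt_pow_iff_right hp.out.one_lt] at h2
      refine Subgroup.eq_top_of_card_eq _ (le_antisymm (Subgroup.card_le_card_group K) ?_)
      rw [hn, hj]
      exact Nat.pow_le_pow_right hp.out.pos (by omega)
    set c := ⁅a, b⁆ with hc
    have hcL : c ∈ L := hLD ▸ Subgroup.commutator_mem_commutator (Subgroup.mem_top a) (Subgroup.mem_top b)
    haveI hcn : (Subgroup.zpowers c).Normal := ⟨fun w hw g => by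
      rw [(mem_zpowers_central (hLc hcL) hw g).eq, mul_inv_cancel_right]; exact hw⟩
    have hle : commutator G ≤ Subgroup.zpowers c := by
      rw [commutator_def, Subgroup.commutator_le]
      intro r _ s _
      set f := QuotientGroup.mk' (Subgroup.zpowers c) with hf
      have hab : Commute (f a) (f b) := by
        rw [← commutatorElement_eq_one_iff_commute, ← map_commutatorElement, hf, QuotientGroup.mk'_apply,
          QuotientGroup.eq_one_iff]
        exact Subgroup.mem_zpowers c
      have hform : ∀ g : G, ∃ u ∈ commutator G, ∃ i j : ℤ, g = u * a ^ i * b ^ j := by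
        intro g
        haveI : M.Normal := Subgroup.Normal.of_commutator_le (G := G) le_sup_left
        obtain ⟨m, hm, y, hy, rfl⟩ := Subgroup.mem_sup_of_normal_left.1 (hKtop.symm ▸ Subgroup.mem_top g : g ∈ K)
        obtain ⟨u, hu, y', hy', rfl⟩ := Subgroup.mem_sup_of_normal_left.1 hm
        obtain ⟨i, rfl⟩ := Subgroup.mem_zpowers_iff.1 hy'
        obtain ⟨j, rfl⟩ := Subgroup.mem_zpowers_iff.1 hy
        exact ⟨u, hu, i, j, rfl⟩
      obtain ⟨u, hu, i, j, rfl⟩ := hform r
      obtain ⟨u', hu', i', j', rfl⟩ := hform s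
      rw [← QuotientGroup.eq_one_iff, ← QuotientGroup.mk'_apply, ← hf, map_commutatorElement,
        commutatorElement_eq_one_iff_commute]
      simp only [map_mul, map_zpow]
      have hcu : ∀ w ∈ commutator G, ∀ g : G, Commute (f g) (f w) := fun w hw g =>
        (show Commute g w from Subgroup.mem_center_iff.1 (hLc (hLD ▸ hw)) g).map f
      have h1 : ∀ g : G, Commute (f u) (f g) := fun g => (hcu u hu g).symm
      refine (Commute.mul_left (Commute.mul_left ?_ ?_) ?_)
      · exact ((h1 u').mul_right ((h1 a).zpow_right i')).mul_right ((h1 b).zpow_right j')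
      · exact (((hcu u' hu' a).zpow_left i).mul_right ((Commute.refl _).zpow_zpow i i')).mul_right
          (hab.zpow_zpow i j')
      · exact (((hcu u' hu' b).zpow_left j).mul_right (hab.symm.zpow_zpow j i')).mul_right
          ((Commute.refl _).zpow_zpow j j')
    exact isCyclic_of_injective (Subgroup.inclusion hle) (Subgroup.inclusion_injective hle)
  exfalso
  set M := (⊤ : Subgroup G).lowerCentralSeries k with hM
  have hLM : L ≤ M := Subgroup.lowerCentralSeries_antitone _ (Nat.le_succ k)
  have hMcard : Nat.card M = p ^ 3 := by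
    obtain ⟨j, rfl⟩ : ∃ j, k = j + 1 := ⟨k - 1, by omega⟩
    have h1 := MaxClass.card_lcs_eq hQc (by omega) (by omega : _ = j + 1 + 3 - 1) (k := j) (by omega)
    rw [show j + 1 + 3 - 2 - j = 2 by omega, ← hmap] at h1
    rw [card_eq_map_mul T (hTL.trans hLM), h1, hTc]; ring
  by_cases hLe : ∀ l ∈ L, l ^ p = 1
  swap
  · push Not at hLe
    obtain ⟨l, hl, hlp⟩ := hLe
    have hLz : L = Subgroup.zpowers l := by
      refine (Subgroup.eq_of_le_of_card_ge (Subgroup.zpowers_le.2 hl) ?_).symm
      obtain ⟨j, hj⟩ := IsPGroup.iff_orderOf.1 hG l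
      rw [hLcard, Nat.card_zpowers, hj]
      refine Nat.pow_le_pow_right hp.out.pos (Nat.le_of_not_lt fun h => hlp ?_)
      rw [← orderOf_dvd_iff_pow_eq_one, hj]
      exact (pow_dvd_pow p (show j ≤ 1 by omega)).trans (pow_one p).dvd
    haveI hLcyc : IsCyclic L := by rw [hLz]; infer_instance
    have hgen : L ≤ T := by
      rw [hL, Subgroup.lowerCentralSeries_succ, Subgroup.commutator_le]
      intro u hu g _
      have hcL : ⁅g, u⁆ ∈ L := by
        rw [hL, Subgroup.lowerCentralSeries_succ, Subgroup.commutator_comm]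
        exact Subgroup.commutator_mem_commutator (Subgroup.mem_top g) hu
      have hup : u ^ p ∈ L := by
        haveI : L.Normal := inferInstance
        haveI : (L.subgroupOf M).Normal := inferInstance
        have hidx : L.relIndex M = p := by
          have h2 : Nat.card (L.subgroupOf M) * L.relIndex M = Nat.card M := (L.subgroupOf M).card_mul_index
          rw [Nat.card_congr (Subgroup.subgroupOfEquivOfLe hLM).toEquiv, hLcard, hMcard, pow_succ p 2] at h2
          exact Nat.eq_of_mul_eq_mul_left (pow_pos hp.out.pos 2) h2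
        have := Subgroup.pow_index_mem (L.subgroupOf M) ⟨u, hu⟩
        rw [← Subgroup.relIndex, hidx, Subgroup.mem_subgroupOf] at this
        exact this
      have h1 : ⁅g, u⁆ ^ p = 1 := by
        rw [← PGroupBasics.commutator_pow (Subgroup.mem_center_iff.1 (hLc hcL) u).symm,
          commutatorElement_eq_one_iff_mul_comm]
        exact Subgroup.mem_center_iff.1 (hLc hup) g
      rw [← commutatorElement_inv]
      refine inv_mem ?_
      obtain ⟨i, hi⟩ := Subgroup.mem_zpowers_iff.1 (hLz ▸ hTL (Subgroup.mem_zpowers t) : t ∈ Subgroup.zpowers l)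
      haveI : Fintype L := Fintype.ofFinite L
      -- the elements of order `p` of a cyclic group
      have hsub : ∀ w ∈ L, w ^ p = 1 → w ∈ T := by
        intro w hw hwp
        have hset : ({a : L | a ^ p = 1} : Set L).ncard ≤ p := by
          rw [Set.ncard_eq_toFinset_card']
          simpa using IsCyclic.card_pow_eq_one_le (α := L) hp.out.pos
        have hTsub : (T.subgroupOf L : Set L) ⊆ {a : L | a ^ p = 1} := fun a ha =>
          Subtype.ext (by simpa using pow_eq_one_of_mem_zpowers ht ha)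
        have heq := Set.eq_of_subset_of_ncard_le hTsub (by
          refine hset.trans (le_of_eq ?_)
          change p = Nat.card (T.subgroupOf L)
          rw [Nat.card_congr (Subgroup.subgroupOfEquivOfLe hTL).toEquiv, hTc]) (Set.toFinite _)
        have : (⟨w, hw⟩ : L) ∈ (T.subgroupOf L : Set L) := heq ▸ Subtype.ext (by simpa using hwp)
        exact this
      exact hsub _ hcL h1
    have := Subgroup.card_le_of_le hgen
    rw [hLcard, hTc, sq] at this
    have h2 := hp.out.two_le
    nlinarith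
  -- here `L = E` is central
  have hLE : L = E := Subgroup.eq_of_le_of_card_ge (fun l hl => hΩ l (hLe l hl)) (by rw [hEc, hLcard])
  haveI hLn : L.Normal := inferInstance
  set ρ := QuotientGroup.mk' L with hρ
  have hRc : Nat.card (G ⧸ L) = p ^ (k + 2) := by
    have h := L.card_eq_card_quotient_mul_card_subgroup
    rw [hn, hLcard, show k + 4 = k + 2 + 2 from rfl, pow_add] at h
    exact (Nat.eq_of_mul_eq_mul_right (pow_pos hp.out.pos 2) h).symm
  have hmapR : ∀ j : ℕ, ((⊤ : Subgroup G).lowerCentralSeries j).map ρ =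
      (⊤ : Subgroup (G ⧸ L)).lowerCentralSeries j := fun j => by
    rw [Subgroup.map_lowerCentralSeries, Subgroup.map_top_of_surjective ρ (QuotientGroup.mk'_surjective L)]
  have hRne : (⊤ : Subgroup (G ⧸ L)).lowerCentralSeries k ≠ ⊥ := by
    rw [← hmapR, Ne, Subgroup.map_eq_bot_iff, hρ, QuotientGroup.ker_mk']
    intro h
    have := Subgroup.card_le_of_le h
    rw [← hM, hMcard, hLcard] at this
    have := (Nat.pow_le_pow_iff_right hp.out.one_lt).1 this
    omega
  have hclR := class_eq hRc (by omega) (by rwa [show k + 2 - 2 = k from rfl])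
  have hRp := hG.to_quotient L
  have hcentral : ∀ r : G ⧸ L, r ^ p = 1 → r ∈ Subgroup.center (G ⧸ L) := by
    intro r hr
    obtain ⟨a, rfl⟩ := QuotientGroup.mk'_surjective L r
    rw [← map_pow] at hr
    have hap : a ^ p ∈ L := (QuotientGroup.eq_one_iff _).1 hr
    refine Subgroup.mem_center_iff.2 fun q => ?_
    obtain ⟨g, rfl⟩ := QuotientGroup.mk'_surjective L q
    rw [← commutatorElement_eq_one_iff_mul_comm, ← commutatorElement_inv, inv_eq_one, ← map_commutatorElement,
      QuotientGroup.mk'_apply, QuotientGroup.eq_one_iff, hLE]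
    refine hΩ _ (pcentral hp2 _ G rfl hG (fun y hy => hLc (hLE.symm ▸ hΩ y hy)) a g ?_)
    exact hLe _ hap
  set Z := (⊤ : Subgroup (G ⧸ L)).lowerCentralSeries k with hZ
  have hsub : ∀ r : G ⧸ L, r ^ p = 1 → r ∈ Z := by
    intro r hr
    by_cases hr1 : r = 1
    · rw [hr1]; exact one_mem _
    haveI : (Subgroup.zpowers r).Normal := ⟨fun w hw g => by
      rw [(mem_zpowers_central (hcentral r hr) hw g).eq, mul_inv_cancel_right]; exact hw⟩
    have hidx : (Subgroup.zpowers r).index = p ^ (k + 1) := by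
      have h := (Subgroup.zpowers r).card_mul_index
      rw [hRc, Nat.card_zpowers, orderOf_eq_prime hr hr1, pow_succ' p (k + 1)] at h
      exact Nat.eq_of_mul_eq_mul_left hp.out.pos h
    have h := MaxClass.eq_lcs_of_index hRc (by omega) hclR (Subgroup.zpowers r) (r := k + 1) (by omega) hidx
    rw [show k + 1 - 1 = k from rfl] at h
    rw [hZ, ← h]
    exact Subgroup.mem_zpowers r
  have hZcard : Nat.card Z = p := by
    obtain ⟨j, rfl⟩ : ∃ j, k = j + 1 := ⟨k - 1, by omega⟩
    have h1 := MaxClass.card_lcs_eq hRc (by omega) hclR (k := j) (by omega)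
    rw [show j + 1 + 2 - 2 - j = 1 by omega, pow_one] at h1
    exact h1
  haveI : Nontrivial Z := (Subgroup.nontrivial_iff_ne_bot _).2 hRne
  obtain ⟨⟨z, hzZ⟩, hz1⟩ := exists_ne (1 : Z)
  have hzZ' : Subgroup.zpowers z = Z := by
    refine Subgroup.eq_of_le_of_card_ge (Subgroup.zpowers_le.2 hzZ) ?_
    have hzp : z ^ p = 1 := by
      have h : (⟨z, hzZ⟩ : Z) ^ Nat.card Z = 1 := pow_card_eq_one'
      rw [hZcard] at h
      simpa using congrArg Subtype.val h
    rw [hZcard, Nat.card_zpowers, orderOf_eq_prime hzp fun h => hz1 (Subtype.ext h)]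
  have hcyc : IsCyclic (G ⧸ L) := by
    refine IsolatedP.isCyclic_of_odd_unique hRp hp2 z ?_ (fun y hy => hzZ' ▸ hsub y hy)
    have : z ∈ Subgroup.zpowers z := Subgroup.mem_zpowers z
    rw [← orderOf_dvd_iff_pow_eq_one, ← Nat.card_zpowers, hzZ', hZcard]
  apply hRne
  have hbot' : (⊤ : Subgroup (G ⧸ L)).lowerCentralSeries 1 = ⊥ := by
    rw [Subgroup.top_lowerCentralSeries_one, eq_bot_iff, commutator_def, Subgroup.commutator_le]
    intro a _ b _
    rw [Subgroup.mem_bot, commutatorElement_eq_one_iff_commute]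
    haveI := hcyc
    letI := IsCyclic.commGroup (α := G ⧸ L)
    exact mul_comm a b
  exact le_bot_iff.1 (hbot' ▸ Subgroup.lowerCentralSeries_antitone _ hk)

/-- **Blackburn.** A `p`-group of rank at most two, `p` odd. -/
theorem classify.{u} (hp2 : p ≠ 2) : ∀ (m : ℕ) (G : Type u) [Group G] [Finite G], Nat.card G = m → IsPGroup p G →
    Cfsg.PRankLE p 2 G → ∀ n : ℕ, Nat.card G = p ^ n →
      Cfsg.IsMetacyclic G ∨ (∃ (E : Subgroup G) (t x : G), Frame p E t x) ∨
        (p = 3 ∧ 2 ≤ n ∧ (⊤ : Subgroup G).lowerCentralSeries (n - 2) ≠ ⊥) := by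
  intro m
  induction m using Nat.strong_induction_on with
  | _ m ih =>
  intro G _ _ hm hG hr n hn
  classical
  haveI := hG.isNilpotent
  by_cases hcyc : IsCyclic G
  · haveI : Subsingleton (G ⧸ (⊤ : Subgroup G)) := QuotientGroup.subsingleton_quotient_top
    exact Or.inl ⟨⊤, inferInstance, isCyclic_of_surjective Subgroup.topEquiv.symm.toMonoidHom (MulEquiv.surjective _),
      isCyclic_of_subsingleton⟩
  obtain ⟨E, hEn, hEe, hEc, t₀, ht₀E, ht₀c, ht₀⟩ := exists_normal_elem hp2 hG hr hcyc
  haveI := hEn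
  by_cases hall : ∀ x : G, x ^ p = 1 → x ∈ E
  swap
  · push Not at hall
    obtain ⟨x, hx, hxE⟩ := hall
    exact Or.inr (outside_case hp2 hG hr hn hEe hEc ht₀E ht₀c ht₀ hx hxE)
  by_cases h3 : p = 3
  swap
  · left
    refine OmegaSmall.isMetacyclic_of_omega_le (by have := hp.out.two_le; omega) _ G le_rfl hG ?_
    exact (Subgroup.card_le_of_le ((Subgroup.closure_le _).2 fun y hy => hall y hy.2)).trans hEc.le
  have hn2 : 2 ≤ n := by
    have := Subgroup.card_le_card_group E
    rw [hEc, hn] at this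
    exact (Nat.pow_le_pow_iff_right hp.out.one_lt).1 this
  have hmeta : IsCyclic ↥(commutator G) → Cfsg.IsMetacyclic G := fun h =>
    metacyclic_of_derived_cyclic hp2 hG h E hEc.le hall
  by_cases hab : commutator G = ⊥
  · exact Or.inl (hmeta (by rw [hab]; infer_instance))
  by_cases htop : (⊤ : Subgroup G).lowerCentralSeries (n - 2) = ⊥
  swap
  · exact Or.inr (Or.inr ⟨h3, hn2, htop⟩)
  -- the last term of the lower central series
  set K := Group.nilpotencyClass G - 1 with hK
  have hcl1 : 1 < Group.nilpotencyClass G := by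
    by_contra h
    apply hab
    rw [← Subgroup.top_lowerCentralSeries_one, Subgroup.lowerCentralSeries_eq_bot_iff_nilpotencyClass_le]
    omega
  have hKne : (⊤ : Subgroup G).lowerCentralSeries K ≠ ⊥ := by
    rw [Ne, Subgroup.lowerCentralSeries_eq_bot_iff_nilpotencyClass_le]; omega
  have hK1 : (⊤ : Subgroup G).lowerCentralSeries (K + 1) = ⊥ := by
    rw [Subgroup.lowerCentralSeries_eq_bot_iff_nilpotencyClass_le]; omega
  obtain ⟨t, htK, ht⟩ : ∃ t ∈ (⊤ : Subgroup G).lowerCentralSeries K, orderOf t = p := by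
    haveI := (Subgroup.nontrivial_iff_ne_bot _).2 hKne
    obtain ⟨j, hj0, hj⟩ := (IsPGroup.nontrivial_iff_card
      (hG.to_subgroup ((⊤ : Subgroup G).lowerCentralSeries K))).1 inferInstance
    obtain ⟨t, ht⟩ := exists_prime_orderOf_dvd_card'
      (G := ↥((⊤ : Subgroup G).lowerCentralSeries K)) p (hj ▸ dvd_pow_self p hj0.ne')
    exact ⟨t, t.2, by rwa [Subgroup.orderOf_coe]⟩
  have htc : t ∈ Subgroup.center G := by
    rw [Subgroup.lowerCentralSeries_succ, Subgroup.commutator_eq_bot_iff_le_centralizer, Subgroup.coe_top,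
      Subgroup.centralizer_univ] at hK1
    exact hK1 htK
  haveI hTn : (Subgroup.zpowers t).Normal := ⟨fun a ha g => by
    rw [(mem_zpowers_central htc ha g).eq, mul_inv_cancel_right]; exact ha⟩
  set T := Subgroup.zpowers t with hT
  have hTc : Nat.card T = p := by rw [hT, Nat.card_zpowers, ht]
  have hTE : T ≤ E := Subgroup.zpowers_le.2 (hall t (ht ▸ pow_orderOf_eq_one t))
  set π := QuotientGroup.mk' T with hπ
  have hrQ := rank_quotient hp2 E hEc.le hall htc ht
  have hQp := hG.to_quotient T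
  have hQc : Nat.card (G ⧸ T) = p ^ (n - 1) := by
    have h := T.card_eq_card_quotient_mul_card_subgroup
    rw [hn, hTc, show p ^ n = p ^ (n - 1) * p by rw [← pow_succ]; congr 1; omega] at h
    exact (Nat.eq_of_mul_eq_mul_right hp.out.pos h).symm
  have hlt : Nat.card (G ⧸ T) < m := by
    rw [← hm, T.card_eq_card_quotient_mul_card_subgroup, hTc]
    exact lt_mul_of_one_lt_right Nat.card_pos hp.out.one_lt
  -- maximal class quotient
  have hfinish : (⊤ : Subgroup (G ⧸ T)).lowerCentralSeries (n - 1 - 2) ≠ ⊥ → Cfsg.IsMetacyclic G := by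
    intro hQ
    refine hmeta ?_
    rcases Nat.lt_or_ge n 4 with h4 | h4
    · -- order at most `p ^ 3`
      have hle : Nat.card ↥(commutator G) ≤ p := by
        rw [← Subgroup.top_lowerCentralSeries_one]
        have h := MaxClass.card_lcs_le hG n hn 0
        exact h.trans ((Nat.pow_le_pow_right hp.out.pos (show n - 2 - 0 ≤ 1 by omega)).trans (pow_one p).le)
      obtain ⟨j, hj⟩ := IsPGroup.iff_card.1 (hG.to_subgroup (commutator G))
      have hj1 : j ≤ 1 := (Nat.pow_le_pow_iff_right hp.out.one_lt).1 ((hj ▸ hle).trans (pow_one p).ge)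
      rcases Nat.eq_zero_or_pos j with rfl | hj0
      · rw [pow_zero] at hj; rw [Subgroup.card_eq_one.1 hj]; infer_instance
      · exact isCyclic_of_prime_card (p := p) (by rw [hj, show j = 1 by omega, pow_one])
    · refine inside_max_class hp2 hG hn h4 hEc hall hEe.2 htc ht ?_ hQ htop
      intro k hk0 hk
      rw [Subgroup.lowerCentralSeries_eq_bot_iff_nilpotencyClass_le] at hk
      rw [Ne, Subgroup.lowerCentralSeries_eq_bot_iff_nilpotencyClass_le] at hk0
      rw [show k = K by omega]
      exact htK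
  left
  rcases ih _ hlt (G ⧸ T) rfl hQp hrQ (n - 1) hQc with hmet | ⟨E', t', x', F⟩ | ⟨-, -, hQ⟩
  · exact hmeta (derived_isCyclic T (Subgroup.zpowers_le.2 htc) hmet)
  · refine hfinish (lcs_ne_bot_of_centralizer (n - 1) _ hQc ?_ x' ?_)
    · have := Subgroup.card_le_card_group E'
      rw [F.Ec, hQc] at this
      exact (Nat.pow_le_pow_iff_right hp.out.one_lt).1 this
    rw [F.card_centralizer hp2 hQp hrQ, sq]
    congr 1
    refine le_antisymm (Nat.le_of_not_lt fun hC => ?_) (by
      rw [show p = Nat.card (Subgroup.zpowers t') from F.Tcard.symm]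
      exact Subgroup.card_le_of_le (Subgroup.zpowers_le.2 F.t_mem_C))
    -- the preimage of `E' ⊔ ⟨x'⟩` would be too large
    obtain ⟨c, hc, hct⟩ := F.C_pow hp2 hQp hrQ hC (Subgroup.mem_zpowers t')
    obtain ⟨v, rfl⟩ := QuotientGroup.mk'_surjective T c
    set X' := E' ⊔ Subgroup.zpowers x' with hX'
    set Y := X'.comap π with hY
    have hTY : T ≤ Y := fun z hz => by
      have : π z = 1 := (QuotientGroup.eq_one_iff z).2 hz
      rw [hY, Subgroup.mem_comap, this]; exact one_mem _
    haveI := F.En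
    have hYc : Nat.card Y = p ^ 4 := by
      rw [card_eq_map_mul T hTY, hY, Subgroup.map_comap_eq_self_of_surjective (QuotientGroup.mk'_surjective T),
        hTc, hX', card_sup_zpowers E' F.xp F.xE, F.Ec]
      ring
    have hvY : ∀ y ∈ Y, ⁅v, y⁆ ∈ T := by
      intro y hy
      rw [← QuotientGroup.eq_one_iff]
      show π ⁅v, y⁆ = 1
      rw [map_commutatorElement, commutatorElement_eq_one_iff_mul_comm]
      have hle : X' ≤ Subgroup.centralizer {π v} := sup_le
        (fun e he => Subgroup.mem_centralizer_singleton_iff.2 (Subgroup.mem_centralizer_iff.1 hc.1 e he))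
        (Subgroup.zpowers_le.2 (Subgroup.mem_centralizer_singleton_iff.2
          (Subgroup.mem_centralizer_singleton_iff.1 hc.2).symm))
      exact (Subgroup.mem_centralizer_singleton_iff.1 (hle hy)).symm
    set w := v ^ p with hw
    have hwY : ∀ y ∈ Y, Commute w y := by
      intro y hy
      have h1 : ⁅y, v⁆ ∈ T := by rw [← commutatorElement_inv]; exact inv_mem (hvY y hy)
      have h2 : ⁅y, v ^ p⁆ = 1 := by
        rw [PGroupBasics.commutator_pow (mem_zpowers_central htc h1 v).symm]
        exact pow_eq_one_of_mem_zpowers ht h1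
      exact (commutatorElement_eq_one_iff_commute.1 h2).symm
    have hEt : ∀ y : G, π y ∈ Subgroup.zpowers t' → y ∈ E := by
      haveI : (E.map π).Normal := hEn.map π (QuotientGroup.mk'_surjective T)
      have hEmap : Nat.card (E.map π) = p := by
        have h := card_eq_map_mul T hTE
        rw [hEc, hTc, sq] at h
        exact (Nat.eq_of_mul_eq_mul_right hp.out.pos h).symm
      have hle : E.map π ≤ Subgroup.zpowers t' := by
        rintro _ ⟨e, he, rfl⟩
        have hcen := OddOrder.OmegaCen.le_center_of_prime_card hQp hEmap ⟨e, he, rfl⟩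
        refine F.C_inf_E hrQ ⟨Subgroup.center_le_centralizer _ hcen, Subgroup.center_le_centralizer _ hcen⟩ ?_
        exact mem_of_rank hrQ F.Ee F.Ec (by rw [← map_pow, hEe.2 e he, map_one])
          fun q _ => (Subgroup.mem_center_iff.1 hcen q)
      have heq := Subgroup.eq_of_le_of_card_ge hle (by rw [hEmap, F.Tcard])
      intro y hy
      rw [← heq] at hy
      obtain ⟨e, he, hey⟩ := hy
      have : e⁻¹ * y ∈ T := QuotientGroup.eq.1 hey
      rw [show y = e * (e⁻¹ * y) by group]
      exact mul_mem he (hTE this)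
    have hwE : w ∈ E := hEt w (by rw [hw, map_pow, hct]; exact Subgroup.mem_zpowers t')
    have hwT : w ∉ T := fun h => by
      have h1 : π w = 1 := (QuotientGroup.eq_one_iff w).2 h
      rw [hw, map_pow, hct] at h1
      have h2 := F.tord
      rw [h1, orderOf_one] at h2
      exact hp.out.one_lt.ne h2
    have hgenE := Subgroup.eq_of_le_of_card_ge (sup_le hTE (Subgroup.zpowers_le.2 hwE) : T ⊔ Subgroup.zpowers w ≤ E)
      (by rw [card_sup_zpowers T (hEe.2 w hwE) hwT, hTc, hEc, sq])
    have hEY : ∀ e ∈ E, ∀ y ∈ Y, Commute e y := by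
      intro e he y hy
      have hle : T ⊔ Subgroup.zpowers w ≤ Subgroup.centralizer {y} := sup_le
        (fun z hz => Subgroup.mem_centralizer_singleton_iff.2 (mem_zpowers_central htc hz y).symm.eq)
        (Subgroup.zpowers_le.2 (Subgroup.mem_centralizer_singleton_iff.2 (hwY y hy).eq))
      exact Subgroup.mem_centralizer_singleton_iff.1 (hle (hgenE.symm ▸ he))
    obtain ⟨hXcomm, hXpow⟩ := F.sup_facts hp2 hQp
    let φ : Y →* G := MonoidHom.mk' (fun y => (y : G) ^ p) fun a b => by
      have hc : (a : G)⁻¹ * (b : G)⁻¹ * (a : G) * (b : G) ∈ E := by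
        refine hEt _ ?_
        have := hXcomm _ (inv_mem (a.2 : π a ∈ X')) _ (inv_mem (b.2 : π b ∈ X'))
        simpa [commutatorElement_def] using this
      exact mul_pow_of_commutator hp2 (c := ((a : G)⁻¹ * (b : G)⁻¹ * (a : G) * (b : G))⁻¹) (by group)
        (hEY _ (inv_mem hc) _ a.2) (hEY _ (inv_mem hc) _ b.2) (hEe.2 _ (inv_mem hc))
    have h1 := φ.ker.index_mul_card
    rw [Subgroup.index_ker, hYc] at h1
    have h2 : Nat.card φ.range ≤ p := hTc ▸ Subgroup.card_le_of_le (by
      rintro _ ⟨y, rfl⟩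
      refine (QuotientGroup.eq_one_iff _).1 ?_
      show π ((y : G) ^ p) = 1
      rw [map_pow]; exact hXpow _ y.2)
    have h3' : Nat.card φ.ker ≤ p ^ 2 := by
      rw [← Subgroup.card_map_of_injective (K := φ.ker) Y.subtype_injective, ← hEc]
      refine Subgroup.card_le_of_le ?_
      rintro _ ⟨y, hy, rfl⟩
      exact hall _ hy
    have h5 := h1 ▸ Nat.mul_le_mul h2 h3'
    have h6 : p * p ^ 2 < p ^ 4 := by
      rw [← pow_succ']; exact Nat.pow_lt_pow_right hp.out.one_lt (by norm_num)
    omega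
  · exact hfinish hQ

end Cfsg.Agent.RankTwoOdd
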