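import Cfsg.Agent.Lib.FGStruct.RankTwoOdd.Basic
import Mathlib.Data.Nat.Choose.Basic
import Mathlib.Algebra.Field.ZMod
import Mathlib.Tactic.LinearCombination

/-!
`p`-groups of rank two (`p` odd) with a normal subgroup of order `p ^ 3` and exponent `p`.
-/

set_option autoImplicit false
set_option linter.unusedSectionVars false
set_option linter.style.haveILetI false

namespace Cfsg.Agent.RankTwoOdd

open scoped commutatorElement

variable {G : Type*} [Group G] [Finite G] {p : ℕ} [hp : Fact p.Prime]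

/-- `E` normal elementary of order `p ^ 2`, `t` central in `E`, `x` of order `p` with `E ⊔ ⟨x⟩` normal. -/
structure Frame (p : ℕ) (E : Subgroup G) (t x : G) : Prop where
  En : E.Normal
  Ee : Cfsg.IsElementaryAbelian p E
  Ec : Nat.card E = p ^ 2
  tE : t ∈ E
  tc : t ∈ Subgroup.center G
  tord : orderOf t = p
  xp : x ^ p = 1
  xE : x ∉ E
  Xn : (E ⊔ Subgroup.zpowers x).Normal

variable {E : Subgroup G} {t x : G}

/-- Exponent manipulation modulo `p` for an element of order dividing `p`. -/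
theorem zpow_congr_p {w : G} (hw : w ^ p = 1) {i j : ℤ} (h : (p : ℤ) ∣ i - j) : w ^ i = w ^ j := by
  obtain ⟨c, hc⟩ := h
  rw [show i = j + (p : ℤ) * c by linear_combination hc, zpow_add, zpow_mul, zpow_natCast, hw, one_zpow, mul_one]

theorem exists_inv_mod {i : ℤ} (hi : ¬ (p : ℤ) ∣ i) (j : ℤ) : ∃ l : ℤ, (p : ℤ) ∣ l * i - j := by
  obtain ⟨s, u, hsu⟩ := (Nat.prime_iff_prime_int.1 hp.out).coprime_iff_not_dvd.2 hi
  exact ⟨j * u, -(j * s), by linear_combination j * hsu⟩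

namespace Frame

variable (F : Frame p E t x)
include F

theorem t_pow : t ^ p = 1 := F.tord ▸ pow_orderOf_eq_one t

theorem Ecomm {a b : G} (ha : a ∈ E) (hb : b ∈ E) : Commute a b :=
  congrArg Subtype.val (F.Ee.1.is_comm.comm (⟨a, ha⟩ : E) ⟨b, hb⟩)

theorem T_normal : (Subgroup.zpowers t).Normal :=
  ⟨fun a ha g => by rw [(mem_zpowers_central F.tc ha g).eq, mul_inv_cancel_right]; exact ha⟩

theorem T_le : Subgroup.zpowers t ≤ E := Subgroup.zpowers_le.2 F.tE

theorem Tcard : Nat.card (Subgroup.zpowers t) = p := by rw [Nat.card_zpowers, F.tord]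

theorem gen {e : G} (he : e ∈ E) (het : e ∉ Subgroup.zpowers t) :
    ∀ w ∈ E, ∃ i j : ℤ, w = t ^ i * e ^ j := by
  haveI := F.T_normal
  have hle : Subgroup.zpowers t ⊔ Subgroup.zpowers e ≤ E := sup_le F.T_le (Subgroup.zpowers_le.2 he)
  have heq := Subgroup.eq_of_le_of_card_ge hle (by
    rw [card_sup_zpowers _ (F.Ee.2 e he) het, F.Tcard, F.Ec, sq])
  intro w hw
  obtain ⟨a, ha, b, hb, rfl⟩ := Subgroup.mem_sup_of_normal_left.1 (heq.symm ▸ hw : w ∈ Subgroup.zpowers t ⊔ Subgroup.zpowers e)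
  obtain ⟨i, rfl⟩ := Subgroup.mem_zpowers_iff.1 ha
  obtain ⟨j, rfl⟩ := Subgroup.mem_zpowers_iff.1 hb
  exact ⟨i, j, rfl⟩

theorem exists_e : ∃ e ∈ E, e ∉ Subgroup.zpowers t := SetLike.not_le_iff_exists.1 fun h => by
  have := Subgroup.card_le_of_le h
  rw [F.Tcard, F.Ec, sq] at this
  have h2 := hp.out.two_le
  nlinarith

theorem comm_mem (hG : IsPGroup p G) (g : G) {e : G} (he : e ∈ E) : ⁅g, e⁆ ∈ Subgroup.zpowers t := by
  haveI := F.T_normal
  haveI := F.En
  set π := QuotientGroup.mk' (Subgroup.zpowers t) with hπ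
  haveI : (E.map π).Normal := F.En.map π (QuotientGroup.mk'_surjective _)
  have hc : Nat.card (E.map π) = p := by
    have h := card_eq_map_mul (Subgroup.zpowers t) F.T_le
    rw [F.Ec, F.Tcard, sq] at h
    exact (Nat.eq_of_mul_eq_mul_right hp.out.pos h).symm
  rw [← QuotientGroup.eq_one_iff]
  show π ⁅g, e⁆ = 1
  rw [map_commutatorElement, commutatorElement_eq_one_iff_mul_comm]
  exact Subgroup.mem_center_iff.1
    (OddOrder.OmegaCen.le_center_of_prime_card (hG.to_quotient _) hc ⟨e, he, rfl⟩) (π g)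

theorem not_comm (hr : Cfsg.PRankLE p 2 G) {e : G} (he : e ∈ E) (het : e ∉ Subgroup.zpowers t) :
    e * x ≠ x * e := fun h => by
  haveI := F.En
  refine F.xE (mem_of_rank hr F.Ee F.Ec F.xp fun w hw => ?_)
  obtain ⟨i, j, rfl⟩ := F.gen he het w hw
  exact ((show Commute t x from (Subgroup.mem_center_iff.1 F.tc x).symm).zpow_left i).mul_left ((show Commute e x from h).zpow_left j)

theorem mem_T (hr : Cfsg.PRankLE p 2 G) {w : G} (hw : w ∈ E) (hc : w * x = x * w) :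
    w ∈ Subgroup.zpowers t := by
  by_contra h
  exact F.not_comm hr hw h hc

theorem comm_mul_left (g h : G) {e : G} (he : e ∈ E) (hG : IsPGroup p G) :
    ⁅g * h, e⁆ = ⁅g, e⁆ * ⁅h, e⁆ := by
  have h1 := mem_zpowers_central F.tc (F.comm_mem hG h he)
  calc ⁅g * h, e⁆ = g * ⁅h, e⁆ * g⁻¹ * ⁅g, e⁆ := by simp only [commutatorElement_def]; group
    _ = _ := by rw [(h1 g).eq, mul_inv_cancel_right, (h1 _).eq]

theorem comm_zpow (hG : IsPGroup p G) {e : G} (he : e ∈ E) (i : ℤ) : ⁅x ^ i, e⁆ = ⁅x, e⁆ ^ i :=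
  map_zpow (MonoidHom.mk' (fun g => ⁅g, e⁆) fun g h => F.comm_mul_left g h he hG) x i

theorem zpow_mem_centralizer (hG : IsPGroup p G) (hr : Cfsg.PRankLE p 2 G) {i : ℤ}
    (h : x ^ i ∈ Subgroup.centralizer (E : Set G)) : x ^ i = 1 := by
  obtain ⟨e, he, het⟩ := F.exists_e
  have h1 : ⁅x, e⁆ ^ i = 1 := by
    rw [← F.comm_zpow hG he, commutatorElement_eq_one_iff_mul_comm]
    exact (Subgroup.mem_centralizer_iff.1 h e he).symm
  have hpi : (p : ℤ) ∣ i := by
    by_contra hi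
    obtain ⟨l, hl⟩ := exists_inv_mod hi 1
    refine F.not_comm hr he het (commutatorElement_eq_one_iff_mul_comm.1 ?_).symm
    rw [← zpow_one ⁅x, e⁆, ← zpow_congr_p (pow_eq_one_of_mem_zpowers F.tord (F.comm_mem hG x he)) hl,
      mul_comm, zpow_mul, h1, one_zpow]
  rw [zpow_congr_p F.xp (j := 0) (by simpa using hpi), zpow_zero]

theorem split (hG : IsPGroup p G) (hr : Cfsg.PRankLE p 2 G) (g : G) :
    ∃ a ∈ Subgroup.centralizer (E : Set G), ∃ i : ℤ, g = a * x ^ i := by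
  obtain ⟨e, he, het⟩ := F.exists_e
  obtain ⟨k, hk⟩ := Subgroup.mem_zpowers_iff.1 (F.comm_mem hG x he)
  obtain ⟨j, hj⟩ := Subgroup.mem_zpowers_iff.1 (F.comm_mem hG g he)
  have hk0 : ¬ (p : ℤ) ∣ k := fun hd => F.not_comm hr he het (commutatorElement_eq_one_iff_mul_comm.1 (by
    rw [← hk, zpow_congr_p F.t_pow (j := 0) (by simpa using hd), zpow_zero])).symm
  obtain ⟨l, hl⟩ := exists_inv_mod hk0 j
  refine ⟨g * x ^ (-l), ?_, l, by rw [zpow_neg, inv_mul_cancel_right]⟩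
  have h1 : ⁅g * x ^ (-l), e⁆ = 1 := by
    rw [F.comm_mul_left _ _ he hG, F.comm_zpow hG he, ← hj, ← hk, ← zpow_mul, ← zpow_add]
    rw [zpow_congr_p F.t_pow (j := 0) (by obtain ⟨c, hc⟩ := hl; exact ⟨-c, by linear_combination -hc⟩), zpow_zero]
  refine Subgroup.mem_centralizer_iff.2 fun w hw => ?_
  obtain ⟨i, j, rfl⟩ := F.gen he het w hw
  exact (((show Commute t (g * x ^ (-l)) from (Subgroup.mem_center_iff.1 F.tc _).symm).zpow_left i).mul_left
    ((commutatorElement_eq_one_iff_commute.1 h1).symm.zpow_left j)).eq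

theorem delta_mem (hG : IsPGroup p G) (hr : Cfsg.PRankLE p 2 G) {a : G}
    (ha : a ∈ Subgroup.centralizer (E : Set G)) : ⁅a, x⁆ ∈ E := by
  haveI := F.En
  haveI := F.Xn
  have hX : ⁅a, x⁆ ∈ E ⊔ Subgroup.zpowers x := by
    rw [commutatorElement_def]
    exact mul_mem (F.Xn.conj_mem x (Subgroup.mem_sup_right (Subgroup.mem_zpowers x)) a)
      (inv_mem (Subgroup.mem_sup_right (Subgroup.mem_zpowers x)))
  have hA : ⁅a, x⁆ ∈ Subgroup.centralizer (E : Set G) := by
    rw [show ⁅a, x⁆ = a * (x * a⁻¹ * x⁻¹) by rw [commutatorElement_def]; group]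
    exact mul_mem ha (Subgroup.Normal.conj_mem inferInstance _ (inv_mem ha) x)
  obtain ⟨e, he, y, hy, hey⟩ := Subgroup.mem_sup_of_normal_left.1 hX
  obtain ⟨i, rfl⟩ := Subgroup.mem_zpowers_iff.1 hy
  have h1 : x ^ i ∈ Subgroup.centralizer (E : Set G) := by
    have := mul_mem (inv_mem ((Subgroup.mem_centralizer_iff.2 fun w hw => F.Ecomm hw he) :
      e ∈ Subgroup.centralizer (E : Set G))) hA
    rwa [← hey, inv_mul_cancel_left] at this
  rw [← hey, F.zpow_mem_centralizer hG hr h1, mul_one]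
  exact he

theorem delta_mul (hG : IsPGroup p G) (hr : Cfsg.PRankLE p 2 G) {a b : G}
    (ha : a ∈ Subgroup.centralizer (E : Set G)) (hb : b ∈ Subgroup.centralizer (E : Set G)) :
    ⁅a * b, x⁆ = ⁅a, x⁆ * ⁅b, x⁆ := by
  have h1 := F.delta_mem hG hr hb
  calc ⁅a * b, x⁆ = a * ⁅b, x⁆ * a⁻¹ * ⁅a, x⁆ := by simp only [commutatorElement_def]; group
    _ = _ := by
      rw [← Subgroup.mem_centralizer_iff.1 ha _ h1, mul_inv_cancel_right,
        (F.Ecomm h1 (F.delta_mem hG hr ha)).eq]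

end Frame

/-- The centralizer of `E ⊔ ⟨x⟩`. -/
def frameC (E : Subgroup G) (x : G) : Subgroup G :=
  Subgroup.centralizer (E : Set G) ⊓ Subgroup.centralizer ({x} : Set G)

namespace Frame

variable (F : Frame p E t x)
include F

theorem t_mem_C : t ∈ frameC E x :=
  ⟨Subgroup.mem_centralizer_iff.2 fun w _ => Subgroup.mem_center_iff.1 F.tc w,
    Subgroup.mem_centralizer_singleton_iff.2 (Subgroup.mem_center_iff.1 F.tc x).symm⟩

theorem C_inf_E (hr : Cfsg.PRankLE p 2 G) {w : G} (hw : w ∈ frameC E x) (hwE : w ∈ E) :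
    w ∈ Subgroup.zpowers t :=
  F.mem_T hr hwE (Subgroup.mem_centralizer_singleton_iff.1 hw.2)

theorem C_normal : (frameC E x).Normal := by
  haveI := F.Xn
  have h : frameC E x = Subgroup.centralizer ((E ⊔ Subgroup.zpowers x : Subgroup G) : Set G) := by
    refine le_antisymm (fun a ha => Subgroup.mem_centralizer_iff.2 fun w hw => ?_) (le_inf ?_ ?_)
    · have hle : E ⊔ Subgroup.zpowers x ≤ Subgroup.centralizer {a} := sup_le
        (fun e he => Subgroup.mem_centralizer_singleton_iff.2 (Subgroup.mem_centralizer_iff.1 ha.1 e he))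
        (Subgroup.zpowers_le.2 (Subgroup.mem_centralizer_singleton_iff.2
          (Subgroup.mem_centralizer_singleton_iff.1 ha.2).symm))
      exact Subgroup.mem_centralizer_singleton_iff.1 (hle hw)
    · exact Subgroup.centralizer_le (SetLike.coe_subset_coe.2 le_sup_left)
    · exact Subgroup.centralizer_le (Set.singleton_subset_iff.2 (Subgroup.mem_sup_right (Subgroup.mem_zpowers x)))
  rw [h]
  infer_instance

theorem C_cyclic (hp2 : p ≠ 2) (hG : IsPGroup p G) (hr : Cfsg.PRankLE p 2 G) : IsCyclic (frameC E x) := by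
  haveI := F.En
  refine IsolatedP.isCyclic_of_odd_unique (hG.to_subgroup _) hp2 ⟨t, F.t_mem_C⟩
    (Subtype.ext (by simpa using F.t_pow)) fun w hw => ?_
  have hwp : (w : G) ^ p = 1 := by simpa using congrArg Subtype.val hw
  obtain ⟨i, hi⟩ := Subgroup.mem_zpowers_iff.1 (F.C_inf_E hr w.2 (mem_of_rank hr F.Ee F.Ec hwp
    fun e he => Subgroup.mem_centralizer_iff.1 w.2.1 e he))
  exact ⟨i, Subtype.ext (by simpa using hi)⟩

/-- `C_G(E)` is the product of `E` and a cyclic subgroup. -/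
theorem decomp (hp2 : p ≠ 2) (hG : IsPGroup p G) (hr : Cfsg.PRankLE p 2 G) :
    ∃ B : Subgroup G, B ≤ Subgroup.centralizer (E : Set G) ∧ IsCyclic B ∧ frameC E x ≤ B ∧
      B ⊓ E ≤ Subgroup.zpowers t ∧
      (∀ a ∈ Subgroup.centralizer (E : Set G), ∃ e ∈ E, ∃ b ∈ B, a = e * b) ∧
      (B = frameC E x ∨ ∃ z : G, B = Subgroup.zpowers z ∧ ⁅z, x⁆ ∉ Subgroup.zpowers t ∧
        frameC E x = Subgroup.zpowers (z ^ p) ∧ orderOf z = p * orderOf (z ^ p)) := by
  haveI := F.En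
  set A := Subgroup.centralizer (E : Set G) with hA
  have hEA : ∀ w ∈ E, w ∈ A := fun w hw => Subgroup.mem_centralizer_iff.2 fun u hu => F.Ecomm hu hw
  have hzp : ∀ a ∈ A, ∀ i : ℤ, ⁅a ^ i, x⁆ = ⁅a, x⁆ ^ i := fun a ha i => by
    have h := map_zpow (MonoidHom.mk' (fun u : A => ⁅(u : G), x⁆) fun u v => F.delta_mul hG hr u.2 v.2) ⟨a, ha⟩ i
    simpa using h
  -- elements with `⁅a, x⁆` in `⟨t⟩` lie in `E C`
  have hT : ∀ a ∈ A, ⁅a, x⁆ ∈ Subgroup.zpowers t → ∃ e ∈ E, ∃ c ∈ frameC E x, a = e * c := by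
    intro a ha hd
    obtain ⟨e, he, het⟩ := F.exists_e
    obtain ⟨j, hj⟩ := Subgroup.mem_zpowers_iff.1 hd
    obtain ⟨m, hm⟩ := Subgroup.mem_zpowers_iff.1 (by
      have := inv_mem (F.comm_mem hG x he); rwa [commutatorElement_inv] at this : ⁅e, x⁆ ∈ Subgroup.zpowers t)
    have hm0 : ¬ (p : ℤ) ∣ m := fun hd => F.not_comm hr he het (commutatorElement_eq_one_iff_mul_comm.1 (by
      rw [← hm, zpow_congr_p F.t_pow (j := 0) (by simpa using hd), zpow_zero]))
    obtain ⟨l, hl⟩ := exists_inv_mod hm0 j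
    refine ⟨e ^ l, zpow_mem he l, (e ^ l)⁻¹ * a, ⟨A.mul_mem (A.inv_mem (A.zpow_mem (hEA e he) l)) ha,
      Subgroup.mem_centralizer_singleton_iff.2 (commutatorElement_eq_one_iff_mul_comm.1 ?_)⟩,
      (mul_inv_cancel_left _ _).symm⟩
    rw [← zpow_neg, F.delta_mul hG hr (zpow_mem (hEA e he) _) ha, hzp e (hEA e he), ← hm, ← hj, ← zpow_mul,
      ← zpow_add, zpow_congr_p F.t_pow (j := 0)
      (by obtain ⟨c, hc⟩ := hl; exact ⟨-c, by linear_combination -hc⟩), zpow_zero]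
  by_cases hall : ∀ a ∈ A, ⁅a, x⁆ ∈ Subgroup.zpowers t
  · exact ⟨frameC E x, inf_le_left, F.C_cyclic hp2 hG hr, le_rfl, fun w hw => F.C_inf_E hr hw.1 hw.2,
      fun a ha => hT a ha (hall a ha), Or.inl rfl⟩
  push Not at hall
  obtain ⟨z₀, hz₀, hz₀t⟩ := hall
  set e₁ := ⁅z₀, x⁆ with he₁
  have he₁E : e₁ ∈ E := F.delta_mem hG hr hz₀
  have hinter : ∀ w, w ∈ Subgroup.zpowers e₁ → w ∈ Subgroup.zpowers t → w = 1 := by
    intro w hw hwt
    obtain ⟨i, rfl⟩ := Subgroup.mem_zpowers_iff.1 hw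
    by_cases hi : (p : ℤ) ∣ i
    · rw [zpow_congr_p (F.Ee.2 _ he₁E) (j := 0) (by simpa using hi), zpow_zero]
    · obtain ⟨l, hl⟩ := exists_inv_mod hi 1
      refine absurd ?_ hz₀t
      rw [← zpow_one e₁, ← zpow_congr_p (F.Ee.2 _ he₁E) hl, mul_comm, zpow_mul]
      exact zpow_mem hwt l
  let B : Subgroup G :=
  { carrier := {a | a ∈ A ∧ ⁅a, x⁆ ∈ Subgroup.zpowers e₁}
    one_mem' := ⟨one_mem _, by simp⟩
    mul_mem' := fun {a b} ha hb => ⟨mul_mem ha.1 hb.1, by
      rw [F.delta_mul hG hr ha.1 hb.1]; exact mul_mem ha.2 hb.2⟩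
    inv_mem' := fun {a} ha => ⟨inv_mem ha.1, by
      have := hzp a ha.1 (-1)
      rw [zpow_neg_one, zpow_neg_one] at this
      rw [this]; exact inv_mem ha.2⟩ }
  have hCB : frameC E x ≤ B := fun c hc => ⟨hc.1, by
    rw [commutatorElement_eq_one_iff_mul_comm.2 (Subgroup.mem_centralizer_singleton_iff.1 hc.2)]
    exact one_mem _⟩
  have hBE : B ⊓ E ≤ Subgroup.zpowers t := by
    rintro w ⟨⟨hwA, hwx⟩, hwE⟩
    have h1 := hinter _ hwx (by
      have := inv_mem (F.comm_mem hG x hwE)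
      rwa [commutatorElement_inv] at this)
    exact F.mem_T hr hwE (commutatorElement_eq_one_iff_mul_comm.1 h1)
  have hBc : IsCyclic B := by
    refine IsolatedP.isCyclic_of_odd_unique (hG.to_subgroup _) hp2 ⟨t, hCB F.t_mem_C⟩
      (Subtype.ext (by simpa using F.t_pow)) fun w hw => ?_
    have hwp : (w : G) ^ p = 1 := by simpa using congrArg Subtype.val hw
    obtain ⟨i, hi⟩ := Subgroup.mem_zpowers_iff.1 (hBE ⟨w.2, mem_of_rank hr F.Ee F.Ec hwp
      fun e he => Subgroup.mem_centralizer_iff.1 w.2.1 e he⟩)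
    exact ⟨i, Subtype.ext (by simpa using hi)⟩
  obtain ⟨z, hz⟩ := (Subgroup.isCyclic_iff_exists_zpowers_eq_top B).1 hBc
  have hzB : z ∈ B := hz ▸ Subgroup.mem_zpowers z
  have hzt : ⁅z, x⁆ ∉ Subgroup.zpowers t := by
    intro h
    have h1 := hinter _ hzB.2 h
    obtain ⟨i, hi⟩ := Subgroup.mem_zpowers_iff.1
      (hz.symm ▸ (⟨hz₀, Subgroup.mem_zpowers e₁⟩ : z₀ ∈ B) : z₀ ∈ Subgroup.zpowers z)
    apply hz₀t
    rw [he₁, ← hi, hzp z hzB.1, h1, one_zpow]
    exact one_mem _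
  have hzpC : z ^ p ∈ frameC E x := ⟨pow_mem hzB.1 p,
    Subgroup.mem_centralizer_singleton_iff.2 (commutatorElement_eq_one_iff_mul_comm.1 (by
      rw [← zpow_natCast, hzp z hzB.1, zpow_natCast, F.Ee.2 _ (F.delta_mem hG hr hzB.1)]))⟩
  refine ⟨B, fun a ha => ha.1, hBc, hCB, hBE, fun a ha => ?_, Or.inr ⟨z, hz.symm, hzt, ?_, ?_⟩⟩
  · obtain ⟨j, i, hij⟩ := F.gen he₁E hz₀t _ (F.delta_mem hG hr ha)
    obtain ⟨e, he, c, hc, hac⟩ := hT (a * z₀ ^ (-i)) (mul_mem ha (zpow_mem hz₀ _)) (by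
      rw [F.delta_mul hG hr ha (zpow_mem hz₀ _), hzp z₀ hz₀, ← he₁, hij, mul_assoc, ← zpow_add, add_neg_cancel,
        zpow_zero, mul_one]
      exact zpow_mem (Subgroup.mem_zpowers t) j)
    refine ⟨e, he, c * z₀ ^ i, mul_mem (hCB hc) (zpow_mem (show z₀ ∈ B from ⟨hz₀, Subgroup.mem_zpowers e₁⟩) i), ?_⟩
    rw [← mul_assoc, ← hac, zpow_neg, inv_mul_cancel_right]
  · refine le_antisymm (fun c hc => ?_) (Subgroup.zpowers_le.2 hzpC)
    obtain ⟨i, rfl⟩ := Subgroup.mem_zpowers_iff.1 (hz.symm ▸ hCB hc : c ∈ Subgroup.zpowers z)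
    by_cases hi : (p : ℤ) ∣ i
    · obtain ⟨k, rfl⟩ := hi
      rw [zpow_mul, zpow_natCast]; exact zpow_mem (Subgroup.mem_zpowers _) k
    · exfalso
      apply hzt
      obtain ⟨l, hl⟩ := exists_inv_mod hi 1
      rw [← zpow_one ⁅z, x⁆, ← zpow_congr_p (F.Ee.2 _ (F.delta_mem hG hr hzB.1)) hl, mul_comm, zpow_mul,
        ← hzp z hzB.1, commutatorElement_eq_one_iff_mul_comm.2 (Subgroup.mem_centralizer_singleton_iff.1 hc.2),
        one_zpow]
      exact one_mem _
  · obtain ⟨m, hm⟩ := IsPGroup.iff_orderOf.1 hG z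
    rcases m with _ | m
    · rw [pow_zero, orderOf_eq_one_iff] at hm
      exact absurd (by rw [hm, commutatorElement_one_left]; exact one_mem _) hzt
    · rw [orderOf_pow_of_dvd hp.out.ne_zero (hm ▸ dvd_pow_self p (Nat.succ_ne_zero m)), hm, pow_succ',
        Nat.mul_div_cancel_left _ hp.out.pos]

theorem A_comm (hp2 : p ≠ 2) (hG : IsPGroup p G) (hr : Cfsg.PRankLE p 2 G) {a b : G}
    (ha : a ∈ Subgroup.centralizer (E : Set G)) (hb : b ∈ Subgroup.centralizer (E : Set G)) : Commute a b := by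
  obtain ⟨B, hBA, hBc, -, -, hdec, -⟩ := F.decomp hp2 hG hr
  obtain ⟨e, he, u, hu, rfl⟩ := hdec a ha
  obtain ⟨f, hf, v, hv, rfl⟩ := hdec b hb
  haveI := hBc
  have huv : Commute u v := congrArg Subtype.val (IsMulCommutative.is_comm.comm (⟨u, hu⟩ : B) ⟨v, hv⟩)
  exact ((F.Ecomm he hf).mul_right (Subgroup.mem_centralizer_iff.1 (hBA hv) e he)).mul_left
    ((show Commute u f from (Subgroup.mem_centralizer_iff.1 (hBA hu) f hf).symm).mul_right huv)

theorem x_not_mem (hr : Cfsg.PRankLE p 2 G) : x ∉ Subgroup.centralizer (E : Set G) := fun h => by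
  haveI := F.En
  exact F.xE (mem_of_rank hr F.Ee F.Ec F.xp fun e he => Subgroup.mem_centralizer_iff.1 h e he)

theorem card_group (hp2 : p ≠ 2) (hG : IsPGroup p G) (hr : Cfsg.PRankLE p 2 G) (B : Subgroup G)
    (hBA : B ≤ Subgroup.centralizer (E : Set G)) (htB : t ∈ B) (hBE : B ⊓ E ≤ Subgroup.zpowers t)
    (hdec : ∀ a ∈ Subgroup.centralizer (E : Set G), ∃ e ∈ E, ∃ b ∈ B, a = e * b) :
    Nat.card G = p * (p * Nat.card B) := by
  haveI := F.En
  set A := Subgroup.centralizer (E : Set G) with hA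
  have hEA : E ≤ A := fun w hw => Subgroup.mem_centralizer_iff.2 fun u hu => F.Ecomm hu hw
  have htop : A ⊔ Subgroup.zpowers x = ⊤ := eq_top_iff.2 fun g _ => by
    obtain ⟨a, ha, i, rfl⟩ := F.split hG hr g
    exact mul_mem (Subgroup.mem_sup_left ha) (Subgroup.mem_sup_right (zpow_mem (Subgroup.mem_zpowers x) i))
  rw [← Subgroup.card_top, ← htop, card_sup_zpowers A F.xp (F.x_not_mem hr)]
  congr 1
  have hmap : A.map (QuotientGroup.mk' E) = B.map (QuotientGroup.mk' E) := by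
    refine le_antisymm ?_ (Subgroup.map_mono hBA)
    rintro _ ⟨a, ha, rfl⟩
    obtain ⟨e, he, b, hb, rfl⟩ := hdec a ha
    refine ⟨b, hb, ?_⟩
    rw [map_mul, QuotientGroup.mk'_apply _ e, (QuotientGroup.eq_one_iff e).2 he, one_mul]
  have hinf : B ⊓ E = Subgroup.zpowers t :=
    le_antisymm hBE (le_inf (Subgroup.zpowers_le.2 htB) F.T_le)
  have h2 : Nat.card (E.subgroupOf B) * E.relIndex B = Nat.card B := (E.subgroupOf B).card_mul_index
  rw [← Subgroup.inf_subgroupOf_left, Nat.card_congr (Subgroup.subgroupOfEquivOfLe inf_le_left).toEquiv,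
    hinf, F.Tcard] at h2
  rw [card_eq_map_mul E hEA, hmap, ← Subgroup.relIndex_ker, QuotientGroup.ker_mk', F.Ec, ← h2]
  ring

theorem card_centralizer (hp2 : p ≠ 2) (hG : IsPGroup p G) (hr : Cfsg.PRankLE p 2 G) :
    Nat.card (Subgroup.centralizer ({x} : Set G)) = p * Nat.card (frameC E x) := by
  haveI := F.C_normal
  rw [← card_sup_zpowers (frameC E x) F.xp (fun h => F.x_not_mem hr h.1)]
  refine congrArg (fun H : Subgroup G => Nat.card H) (le_antisymm (fun g hg => ?_) (sup_le inf_le_right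
    (Subgroup.zpowers_le.2 (Subgroup.mem_centralizer_singleton_iff.2 rfl))))
  obtain ⟨a, ha, i, rfl⟩ := F.split hG hr g
  refine mul_mem (Subgroup.mem_sup_left ⟨ha, ?_⟩) (Subgroup.mem_sup_right (zpow_mem (Subgroup.mem_zpowers x) i))
  have hx : x ^ i ∈ Subgroup.centralizer ({x} : Set G) := zpow_mem (Subgroup.mem_centralizer_singleton_iff.2 rfl) i
  simpa using mul_mem hg (inv_mem hx)

theorem C_pow (hp2 : p ≠ 2) (hG : IsPGroup p G) (hr : Cfsg.PRankLE p 2 G) (hC : p < Nat.card (frameC E x))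
    {w : G} (hw : w ∈ Subgroup.zpowers t) : ∃ c ∈ frameC E x, c ^ p = w := by
  obtain ⟨v, hv⟩ := (Subgroup.isCyclic_iff_exists_zpowers_eq_top _).1 (F.C_cyclic hp2 hG hr)
  obtain ⟨m, hm⟩ := IsPGroup.iff_orderOf.1 hG v
  rw [← hv, Nat.card_zpowers, hm] at hC
  obtain ⟨i, hi⟩ := Subgroup.mem_zpowers_iff.1 (hv.symm ▸ F.t_mem_C : t ∈ Subgroup.zpowers v)
  have h1 : v ^ (i * p) = 1 := by rw [zpow_mul, hi, zpow_natCast, F.t_pow]
  rw [← orderOf_dvd_iff_zpow_eq_one, hm] at h1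
  have hm2 : 2 ≤ m := by
    by_contra h
    exact absurd ((Nat.pow_le_pow_right hp.out.pos (show m ≤ 1 by omega)).trans (pow_one p).le) (not_le.2 hC)
  obtain ⟨k, hk⟩ : (p : ℤ) ∣ i := by
    refine Int.dvd_of_mul_dvd_mul_left (show (p : ℤ) ≠ 0 by exact_mod_cast hp.out.ne_zero) ?_
    rw [mul_comm (p : ℤ) i, ← sq]
    refine (pow_dvd_pow (p : ℤ) hm2).trans ?_
    push_cast at h1
    exact h1
  obtain ⟨l, rfl⟩ := Subgroup.mem_zpowers_iff.1 hw
  refine ⟨v ^ (k * l), zpow_mem (hv ▸ Subgroup.mem_zpowers v) _, ?_⟩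
  rw [← hi, hk, ← zpow_natCast, ← zpow_mul, ← zpow_mul]
  congr 1; ring

/-- For `p = 3`, if the centralizer of `x` has order at least `27` all elements of order `3` lie in
`E ⊔ ⟨x⟩`. -/
theorem omega_three (h3 : p = 3) (hG : IsPGroup p G) (hr : Cfsg.PRankLE p 2 G) (hC : p < Nat.card (frameC E x))
    {y : G} (hy : y ^ p = 1) : y ∈ E ⊔ Subgroup.zpowers x := by
  haveI := F.En
  have hp2 : p ≠ 2 := by omega
  set A := Subgroup.centralizer (E : Set G) with hA
  have hAn : A.Normal := inferInstance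
  have key : ∀ a ∈ A, (a * x) ^ p = 1 → a ∈ E := by
    intro a ha hax
    set d := ⁅a, x⁆ with hd
    have hdE : d ∈ E := F.delta_mem hG hr ha
    have hdA : d ∈ A := Subgroup.mem_centralizer_iff.2 fun u hu => F.Ecomm hu hdE
    set τ := ⁅x, d⁻¹⁆ with hτ
    have hτT : τ ∈ Subgroup.zpowers t := F.comm_mem hG x (inv_mem hdE)
    have hτc : ∀ g, Commute g τ := mem_zpowers_central F.tc hτT
    have hx3 : x ^ 3 = 1 := h3 ▸ F.xp
    have h1 : x * a * x⁻¹ = d⁻¹ * a := by rw [hd, commutatorElement_def]; group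
    have h2 : x * d⁻¹ * x⁻¹ = τ * d⁻¹ := by rw [hτ, commutatorElement_def]; group
    have hdc : Commute d⁻¹ a := (F.A_comm hp2 hG hr hdA ha).inv_left
    have hd3 : d⁻¹ * d⁻¹ * d⁻¹ = 1 := by
      rw [← pow_three', inv_pow, ← h3, F.Ee.2 d hdE, inv_one]
    have h4 : (a * x) ^ 3 = a ^ 3 * τ := by
      calc (a * x) ^ 3 = a * (x * a * x⁻¹) * (x * (x * a * x⁻¹) * x⁻¹) * x ^ 3 := by
            rw [pow_three', pow_three']; group
        _ = a * (d⁻¹ * a) * ((τ * d⁻¹) * (d⁻¹ * a)) := by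
            rw [hx3, mul_one, h1,
              show x * (d⁻¹ * a) * x⁻¹ = (x * d⁻¹ * x⁻¹) * (x * a * x⁻¹) by group, h2, h1]
        _ = a * (d⁻¹ * a) * (d⁻¹ * (d⁻¹ * a)) * τ := by
            rw [mul_assoc τ, ← (hτc (d⁻¹ * (d⁻¹ * a))).eq]; group
        _ = (d⁻¹ * d⁻¹ * d⁻¹) * (a * a * a) * τ := by
            rw [← pow_three' d⁻¹, ← pow_three' a, ← hdc.mul_pow, pow_three' (d⁻¹ * a)]
            conv_rhs => arg 1; arg 1; rw [hdc.eq]
            group
        _ = a ^ 3 * τ := by rw [hd3, one_mul, pow_three']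
    rw [h3] at hax
    rw [h4] at hax
    have ha3 : a ^ p ∈ Subgroup.zpowers t := by
      rw [h3, eq_inv_of_mul_eq_one_left hax]; exact inv_mem hτT
    obtain ⟨c, hc, hcp⟩ := F.C_pow hp2 hG hr hC ha3
    have hw : a * c⁻¹ ∈ E := mem_of_rank hr F.Ee F.Ec
      (by rw [((F.A_comm hp2 hG hr ha (inv_mem hc.1))).mul_pow, inv_pow, hcp, mul_inv_cancel])
      (fun e he => Subgroup.mem_centralizer_iff.1 (mul_mem ha (inv_mem hc.1)) e he)
    have hdT : d ∈ Subgroup.zpowers t := by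
      have hwA : a * c⁻¹ ∈ A := mul_mem ha (inv_mem hc.1)
      have e1 : d = ⁅a * c⁻¹, x⁆ := by
        rw [F.delta_mul hG hr ha (inv_mem hc.1), commutatorElement_eq_one_iff_mul_comm.2
          (Subgroup.mem_centralizer_singleton_iff.1 (inv_mem hc.2)), mul_one]
      rw [e1, ← commutatorElement_inv]
      exact inv_mem (F.comm_mem hG x hw)
    have hτ1 : τ = 1 := commutatorElement_eq_one_iff_commute.2 (mem_zpowers_central F.tc (inv_mem hdT) x)
    refine mem_of_rank hr F.Ee F.Ec ?_ fun e he => Subgroup.mem_centralizer_iff.1 ha e he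
    rw [hτ1, mul_one] at hax
    rw [h3, hax]
  obtain ⟨a, ha, i, rfl⟩ := F.split hG hr y
  by_cases hi : (p : ℤ) ∣ i
  · rw [zpow_congr_p F.xp (j := 0) (by simpa using hi), zpow_zero, mul_one] at hy ⊢
    exact Subgroup.mem_sup_left (mem_of_rank hr F.Ee F.Ec hy fun e he => Subgroup.mem_centralizer_iff.1 ha e he)
  obtain ⟨l, hl⟩ := exists_inv_mod hi 1
  set y := a * x ^ i with hydef
  have hqA : ∀ j : ℤ, y ^ j * x ^ (-(i * j)) ∈ A := by
    intro j
    rw [← QuotientGroup.eq_one_iff, QuotientGroup.mk_mul, QuotientGroup.mk_zpow, hydef, QuotientGroup.mk_mul,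
      (QuotientGroup.eq_one_iff a).2 ha, one_mul, QuotientGroup.mk_zpow, QuotientGroup.mk_zpow,
      ← zpow_mul, ← zpow_add, add_neg_cancel, zpow_zero]
  have hxl : x ^ (i * l) = x := by rw [mul_comm, zpow_congr_p F.xp hl, zpow_one]
  have ha' : y ^ l * x⁻¹ ∈ A := by
    have := hqA l
    rwa [zpow_neg, hxl] at this
  have hyl : (y ^ l) ^ p = 1 := by rw [← zpow_natCast, zpow_comm, zpow_natCast, hy, one_zpow]
  have hE' := key _ ha' (by rw [inv_mul_cancel_right]; exact hyl)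
  have hylX : y ^ l ∈ E ⊔ Subgroup.zpowers x := by
    have := mul_mem (Subgroup.mem_sup_left hE' : y ^ l * x⁻¹ ∈ E ⊔ Subgroup.zpowers x)
      (Subgroup.mem_sup_right (Subgroup.mem_zpowers x))
    rwa [inv_mul_cancel_right] at this
  have hyy : (y ^ l) ^ i = y := by rw [← zpow_mul, zpow_congr_p hy hl, zpow_one]
  rw [← hyy]
  exact zpow_mem hylX i

/-- The two non-metacyclic types. -/
theorem types (hp2 : p ≠ 2) (hG : IsPGroup p G) (hr : Cfsg.PRankLE p 2 G) {n : ℕ} (hn : Nat.card G = p ^ n) :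
    (3 ≤ n ∧ ∃ x y z : G, Subgroup.closure ({x, y, z} : Set G) = ⊤ ∧ x ^ p = 1 ∧ y ^ p = 1 ∧ z ^ p ^ (n - 2) = 1 ∧
        x * z = z * x ∧ y * z = z * y ∧ x⁻¹ * y * x = y * z ^ p ^ (n - 3)) ∨
    (4 ≤ n ∧ ∃ (s : ℕ) (x y z : G), (s = 1 ∨ ¬ IsSquare (s : ZMod p)) ∧ Subgroup.closure ({x, y, z} : Set G) = ⊤ ∧
        x ^ p = 1 ∧ y ^ p = 1 ∧ z ^ p ^ (n - 2) = 1 ∧ y * z = z * y ∧ x⁻¹ * y * x = y * z ^ (s * p ^ (n - 3)) ∧
        x⁻¹ * z * x = y * z) := by
  haveI := F.En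
  obtain ⟨B, hBA, hBc, hCB, hBE, hdec, hB⟩ := F.decomp hp2 hG hr
  have hcard := F.card_group hp2 hG hr B hBA (hCB F.t_mem_C) hBE hdec
  obtain ⟨v, hv⟩ := (Subgroup.isCyclic_iff_exists_zpowers_eq_top _).1 (F.C_cyclic hp2 hG hr)
  obtain ⟨c, hc⟩ := IsPGroup.iff_orderOf.1 hG v
  have hc1 : 1 ≤ c := by
    by_contra h
    have hc0 : c = 0 := by omega
    rw [hc0, pow_zero, orderOf_eq_one_iff] at hc
    have := F.t_mem_C
    rw [← hv, hc, Subgroup.zpowers_one_eq_bot, Subgroup.mem_bot] at this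
    have h1 := F.tord
    rw [this, orderOf_one] at h1
    exact hp.out.one_lt.ne h1
  -- powers generating `⟨t⟩`
  have hzeta : ∀ {w : G}, w ∈ frameC E x → orderOf w = p → Subgroup.zpowers w = Subgroup.zpowers t := by
    intro w hw how
    refine Subgroup.eq_of_le_of_card_ge (Subgroup.zpowers_le.2 (F.C_inf_E hr hw ?_))
      (by rw [F.Tcard, Nat.card_zpowers, how])
    exact mem_of_rank hr F.Ee F.Ec (how ▸ pow_orderOf_eq_one w) fun e he => Subgroup.mem_centralizer_iff.1 hw.1 e he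
  set A := Subgroup.centralizer (E : Set G) with hA
  -- generation criterion
  have hgen : ∀ {x' : G} {S : Subgroup G}, x' ∈ S → x ∈ Subgroup.zpowers x' → E ≤ S → B ≤ S → S = ⊤ := by
    intro x' S hx' hxx hE hB'
    refine eq_top_iff.2 fun g _ => ?_
    obtain ⟨a, ha, i, rfl⟩ := F.split hG hr g
    obtain ⟨e, he, b, hb, rfl⟩ := hdec a ha
    exact mul_mem (mul_mem (hE he) (hB' hb)) (zpow_mem ((Subgroup.zpowers_le.2 hx') hxx) i)
  rcases hB with rfl | ⟨z, rfl, hzt, hCz, hzo⟩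
  · left
    have hn' : n = c + 2 := Nat.pow_right_injective hp.out.two_le (by
      show p ^ n = p ^ (c + 2)
      rw [← hn, hcard, ← hv, Nat.card_zpowers, hc]; ring)
    set ζ := v ^ p ^ (c - 1) with hζ
    have hζC : ζ ∈ frameC E x := pow_mem (hv ▸ Subgroup.mem_zpowers v) _
    have hζo : orderOf ζ = p := by
      rw [hζ, orderOf_pow_of_dvd (pow_ne_zero _ hp.out.ne_zero) (hc ▸ pow_dvd_pow p (by omega)), hc,
        Nat.pow_div (by omega) hp.out.pos, show c - (c - 1) = 1 by omega, pow_one]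
    obtain ⟨e, he, het⟩ := F.exists_e
    obtain ⟨m, hm⟩ := Subgroup.mem_zpowers_iff.1 ((hzeta hζC hζo).symm ▸ F.comm_mem hG x⁻¹ he :
      ⁅x⁻¹, e⁆ ∈ Subgroup.zpowers ζ)
    have hζp : ζ ^ p = 1 := hζo ▸ pow_orderOf_eq_one ζ
    have hm0 : ¬ (p : ℤ) ∣ m := fun hd => F.not_comm hr he het (by
      have h1 : ⁅x⁻¹, e⁆ = 1 := by rw [← hm, zpow_congr_p hζp (j := 0) (by simpa using hd), zpow_zero]
      exact ((commutatorElement_eq_one_iff_commute.1 h1).inv_left).symm.eq |> fun h => by simpa using h)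
    obtain ⟨l, hl⟩ := exists_inv_mod hm0 1
    refine ⟨by omega, x, e ^ l, v, ?_, F.xp, F.Ee.2 _ (zpow_mem he l), ?_, ?_, ?_, ?_⟩
    · set S := Subgroup.closure ({x, e ^ l, v} : Set G) with hS
      have hxS : x ∈ S := Subgroup.subset_closure (by simp)
      have hvS : v ∈ S := Subgroup.subset_closure (by simp)
      refine hgen hxS (Subgroup.mem_zpowers x) ?_ (hv ▸ Subgroup.zpowers_le.2 hvS)
      have hl0 : ¬ (p : ℤ) ∣ l := fun hd => by
        have h2 := dvd_sub (hd.mul_right m) hl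
        rw [sub_sub_cancel] at h2
        exact (Nat.prime_iff_prime_int.1 hp.out).not_dvd_one h2
      obtain ⟨l', hl'⟩ := exists_inv_mod hl0 1
      have hel : e ^ l ∈ S := Subgroup.subset_closure (by simp)
      intro w hw
      obtain ⟨i, j, rfl⟩ := F.gen he het w hw
      refine mul_mem (zpow_mem ?_ i) (zpow_mem ?_ j)
      · exact (Subgroup.zpowers_le.2 hvS) (hv.symm ▸ F.t_mem_C)
      · rw [← zpow_one e, ← zpow_congr_p (F.Ee.2 e he) hl', mul_comm, zpow_mul]
        exact zpow_mem hel l'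
    · rw [show n - 2 = c by omega, ← hc, pow_orderOf_eq_one]
    · exact (Subgroup.mem_centralizer_singleton_iff.1 (hv ▸ Subgroup.mem_zpowers v : v ∈ frameC E x).2).symm
    · exact (Subgroup.mem_centralizer_iff.1 (hv ▸ Subgroup.mem_zpowers v : v ∈ frameC E x).1 _ (zpow_mem he l))
    · rw [show n - 3 = c - 1 by omega, ← hζ]
      have h1 : x⁻¹ * e * x = ζ ^ m * e := by rw [hm, commutatorElement_def]; group
      have hcomm : Commute (ζ ^ m) e :=
        ((show Commute ζ e from (Subgroup.mem_centralizer_iff.1 hζC.1 e he).symm)).zpow_left m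
      calc x⁻¹ * e ^ l * x = (x⁻¹ * e * x) ^ l := by
            have := conj_zpow (a := x⁻¹) (b := e) (i := l)
            rw [inv_inv] at this
            exact this.symm
        _ = e ^ l * ζ := by
            rw [h1, hcomm.mul_zpow, ← zpow_mul, mul_comm m, zpow_congr_p hζp hl, zpow_one]
            exact ((show Commute ζ e from (Subgroup.mem_centralizer_iff.1 hζC.1 e he).symm).zpow_right l).eq
  · right
    have hzA : z ∈ A := hBA (Subgroup.mem_zpowers z)
    have hoz : orderOf z = p ^ (c + 1) := by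
      rw [hzo, pow_succ', ← hc]
      congr 1
      rw [← Nat.card_zpowers, ← Nat.card_zpowers, ← hCz, hv]
    have hn' : n = c + 3 := Nat.pow_right_injective hp.out.two_le (by
      show p ^ n = p ^ (c + 3)
      rw [← hn, hcard, Nat.card_zpowers, hoz]; ring)
    set ζ := z ^ p ^ c with hζ
    have hζC : ζ ∈ frameC E x := by
      rw [hCz, hζ, show p ^ c = p * p ^ (c - 1) by rw [← pow_succ']; congr 1; omega, pow_mul]
      exact pow_mem (Subgroup.mem_zpowers _) _
    have hζo : orderOf ζ = p := by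
      rw [hζ, orderOf_pow_of_dvd (pow_ne_zero _ hp.out.ne_zero) (hoz ▸ pow_dvd_pow p (by omega)), hoz,
        Nat.pow_div (by omega) hp.out.pos, show c + 1 - c = 1 by omega, pow_one]
    have hζp : ζ ^ p = 1 := hζo ▸ pow_orderOf_eq_one ζ
    have hζc : ∀ g, Commute g ζ :=
      mem_zpowers_central F.tc ((hzeta hζC hζo) ▸ Subgroup.mem_zpowers ζ)
    set d := ⁅z, x⁆ with hd
    have hdE : d ∈ E := F.delta_mem hG hr hzA
    set y := x⁻¹ * d * x with hy
    have hyE : y ∈ E := by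
      have := F.En.conj_mem d hdE x⁻¹
      rwa [inv_inv] at this
    have hxzy : x⁻¹ * z * x = y * z := by rw [hy, hd, commutatorElement_def]; group
    have hyt : y ∉ Subgroup.zpowers t := by
      intro h
      apply hzt
      have : d = x * y * x⁻¹ := by rw [hy]; group
      rw [this]
      exact F.T_normal.conj_mem y h x
    have hyz : Commute y z := Subgroup.mem_centralizer_iff.1 hzA y hyE
    obtain ⟨k, hk⟩ := Submonoid.mem_powers_iff _ _ |>.1 ((isOfFinOrder_of_finite ζ).mem_powers_iff_mem_zpowers.2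
      ((hzeta hζC hζo).symm ▸ F.comm_mem hG x⁻¹ hyE : ⁅x⁻¹, y⁆ ∈ Subgroup.zpowers ζ))
    have hxy : x⁻¹ * y * x = y * ζ ^ k := by
      rw [((hζc y).pow_right k).eq, hk, commutatorElement_def]; group
    have hk0 : (k : ZMod p) ≠ 0 := by
      rw [Ne, ZMod.natCast_eq_zero_iff]
      intro hd0
      refine F.not_comm hr hyE hyt ?_
      obtain ⟨q, hq⟩ := hd0
      rw [hq, pow_mul, hζp, one_pow, mul_one] at hxy
      calc y * x = x * (x⁻¹ * y * x) := by group
        _ = x * y := by rw [hxy]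
    -- powers of `x`
    have hyiter : ∀ a : ℕ, (x ^ a)⁻¹ * y * x ^ a = y * ζ ^ (k * a) := by
      intro a
      induction a with
      | zero => simp
      | succ a ih =>
        calc (x ^ (a + 1))⁻¹ * y * x ^ (a + 1) = x⁻¹ * ((x ^ a)⁻¹ * y * x ^ a) * x := by
              rw [pow_succ]; group
          _ = (x⁻¹ * y * x) * ζ ^ (k * a) := by
              rw [ih, mul_assoc x⁻¹, mul_assoc y, ← ((hζc x).pow_right (k * a)).eq]; group
          _ = _ := by rw [hxy, mul_assoc, ← pow_add, Nat.mul_succ, Nat.add_comm]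
    have hziter : ∀ a : ℕ, (x ^ a)⁻¹ * z * x ^ a = y ^ a * ζ ^ (k * a.choose 2) * z := by
      intro a
      induction a with
      | zero => simp
      | succ a ih =>
        have e1 : x⁻¹ * y ^ a * x = (x⁻¹ * y * x) ^ a := by
          have := conj_pow (a := x⁻¹) (b := y) (i := a)
          rw [inv_inv] at this
          exact this.symm
        calc (x ^ (a + 1))⁻¹ * z * x ^ (a + 1) = x⁻¹ * ((x ^ a)⁻¹ * z * x ^ a) * x := by
              rw [pow_succ]; group
          _ = (x⁻¹ * y ^ a * x) * (x⁻¹ * ζ ^ (k * a.choose 2) * x) * (x⁻¹ * z * x) := by rw [ih]; group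
          _ = y ^ a * ζ ^ (k * a) * ζ ^ (k * a.choose 2) * (y * z) := by
              rw [e1, hxy, (((hζc y).pow_right k)).mul_pow, ← pow_mul, hxzy,
                mul_assoc x⁻¹ (ζ ^ _) x, ← ((hζc x).pow_right _).eq, inv_mul_cancel_left]
          _ = y ^ (a + 1) * ζ ^ (k * (a + 1).choose 2) * z := by
              rw [mul_assoc (y ^ a), ← pow_add, ← mul_assoc, mul_assoc (y ^ a), ← ((hζc y).pow_right _).eq,
                ← mul_assoc, ← pow_succ, Nat.choose_succ_succ, Nat.choose_one_right, mul_add]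
    obtain ⟨s, a, hs, ha0, hka⟩ : ∃ s a : ℕ, (s = 1 ∨ ¬ IsSquare (s : ZMod p)) ∧ (a : ZMod p) ≠ 0 ∧
        (k * a * a : ZMod p) = s := by
      by_cases hsq : IsSquare (k : ZMod p)
      · obtain ⟨b, hb⟩ := hsq
        have hb0 : b ≠ 0 := fun h => hk0 (by rw [hb, h, mul_zero])
        refine ⟨1, (b⁻¹).val, Or.inl rfl, ?_, ?_⟩
        · rw [ZMod.natCast_zmod_val]; exact inv_ne_zero hb0
        · rw [ZMod.natCast_zmod_val, hb, Nat.cast_one]; field_simp
      · exact ⟨k, 1, Or.inr hsq, by simp, by simp⟩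
    have hap : ¬ (p : ℤ) ∣ a := fun h => ha0 (by
      rw [ZMod.natCast_eq_zero_iff]; exact_mod_cast h)
    set y' := y ^ a * ζ ^ (k * a.choose 2) with hy'
    have hy'E : y' ∈ E := mul_mem (pow_mem hyE a) (pow_mem (F.T_le ((hzeta hζC hζo) ▸ Subgroup.mem_zpowers ζ)) _)
    refine ⟨by omega, s, x ^ a, y', z, hs, ?_, ?_, F.Ee.2 _ hy'E, ?_, Subgroup.mem_centralizer_iff.1 hzA y' hy'E, ?_,
      hziter a⟩
    · set S := Subgroup.closure ({x ^ a, y', z} : Set G) with hS
      have hxS : x ^ a ∈ S := Subgroup.subset_closure (by simp)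
      have hzS : z ∈ S := Subgroup.subset_closure (by simp)
      obtain ⟨l, hl⟩ := exists_inv_mod hap 1
      have hxx : x ∈ Subgroup.zpowers (x ^ a) := ⟨l, by
        show (x ^ a) ^ l = x
        rw [← zpow_natCast, ← zpow_mul, mul_comm, zpow_congr_p F.xp hl, zpow_one]⟩
      refine hgen hxS hxx ?_ (Subgroup.zpowers_le.2 hzS)
      have hxS' : x ∈ S := (Subgroup.zpowers_le.2 hxS) hxx
      have hyS : y ∈ S := by
        have : y = x⁻¹ * z * x * z⁻¹ := by rw [hxzy, mul_inv_cancel_right]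
        rw [this]
        exact mul_mem (mul_mem (mul_mem (inv_mem hxS') hzS) hxS') (inv_mem hzS)
      intro w hw
      obtain ⟨i, j, rfl⟩ := F.gen hyE hyt w hw
      refine mul_mem (zpow_mem ?_ i) (zpow_mem hyS j)
      have : t ∈ Subgroup.zpowers ζ := (hzeta hζC hζo).symm ▸ Subgroup.mem_zpowers t
      exact (Subgroup.zpowers_le.2 (pow_mem hzS _)) this
    · rw [← pow_mul, mul_comm, pow_mul, F.xp, one_pow]
    · rw [show n - 2 = c + 1 by omega, ← hoz, pow_orderOf_eq_one]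
    · have hsk : ζ ^ (k * a * a) = ζ ^ s := by
        rw [pow_eq_pow_iff_modEq, hζo, ← ZMod.natCast_eq_natCast_iff]
        push_cast
        exact hka
      rw [show n - 3 = c by omega, mul_comm s, pow_mul, ← hζ]
      have e1 : (x ^ a)⁻¹ * y ^ a * x ^ a = ((x ^ a)⁻¹ * y * x ^ a) ^ a := by
        have := conj_pow (a := (x ^ a)⁻¹) (b := y) (i := a)
        rw [inv_inv] at this
        exact this.symm
      calc (x ^ a)⁻¹ * y' * x ^ a = ((x ^ a)⁻¹ * y ^ a * x ^ a) * ((x ^ a)⁻¹ * ζ ^ (k * a.choose 2) * x ^ a) := by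
            rw [hy']; group
        _ = y ^ a * ζ ^ (k * a * a) * ζ ^ (k * a.choose 2) := by
            rw [e1, hyiter, ((hζc y).pow_right _).mul_pow, ← pow_mul,
              mul_assoc (x ^ a)⁻¹, ← (((hζc x).pow_left a).pow_right _).eq, inv_mul_cancel_left]
        _ = y' * ζ ^ s := by rw [hsk, hy', mul_assoc, mul_assoc, ← pow_add, ← pow_add, Nat.add_comm]

end Frame

end Cfsg.Agent.RankTwoOdd
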